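/-
Groups of characteristic 2 and p type (Klinger-Mason): elementary facts and rank bounds.
-/
import Cfsg.Prelude.Def_CaseTheorems
import Cfsg.Prelude.Def_LocalEven
import Cfsg.Agent.Lib.CharP.AxB
import Cfsg.Agent.Lib.Solvable.Coprime
import Cfsg.Agent.Lib.LocalEven.OmegaOne
import Mathlib.GroupTheory.NoncommCoprod

set_option autoImplicit false
set_option linter.unusedSectionVars false
set_option linter.unusedSimpArgs false
set_option linter.style.haveILetI false

namespace Cfsg.Agent.KlingerMason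

variable {G : Type*} [Group G] {p : ℕ}

/-- An elementary abelian `p`-subgroup. -/
def IsEl (p : ℕ) (A : Subgroup G) : Prop :=
  (∀ a ∈ A, ∀ b ∈ A, Commute a b) ∧ ∀ a ∈ A, a ^ p = 1

theorem IsEl.isPGroup {A : Subgroup G} (hA : IsEl p A) : IsPGroup p A := fun a =>
  ⟨1, Subtype.ext (by simpa using hA.2 a a.2)⟩

theorem IsEl.mono {A B : Subgroup G} (hA : IsEl p A) (h : B ≤ A) : IsEl p B :=
  ⟨fun a ha b hb => hA.1 a (h ha) b (h hb), fun a ha => hA.2 a (h ha)⟩

theorem IsEl.sup_zpowers {A : Subgroup G} (hA : IsEl p A) {x : G} (hx : x ^ p = 1)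
    (hc : ∀ a ∈ A, Commute a x) : IsEl p (A ⊔ Subgroup.zpowers x) := by
  set f : ↥A × ↥(Subgroup.zpowers x) →* G := MonoidHom.noncommCoprod A.subtype
    (Subgroup.zpowers x).subtype (fun a b => by
      obtain ⟨i, hi⟩ := Subgroup.mem_zpowers_iff.1 b.2
      show Commute (a : G) (b : G)
      rw [← hi]; exact (hc a a.2).zpow_right i) with hf
  have hr : f.range = A ⊔ Subgroup.zpowers x := by
    rw [hf, MonoidHom.noncommCoprod_range, Subgroup.range_subtype, Subgroup.range_subtype]
  have hab : ∀ g h : ↥A × ↥(Subgroup.zpowers x), Commute g h := fun g h =>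
    Prod.ext (Subtype.ext (hA.1 _ g.1.2 _ h.1.2)) (Subtype.ext (by
      obtain ⟨i, hi⟩ := Subgroup.mem_zpowers_iff.1 g.2.2
      obtain ⟨j, hj⟩ := Subgroup.mem_zpowers_iff.1 h.2.2
      show (g.2 : G) * h.2 = h.2 * g.2
      rw [← hi, ← hj]; exact ((Commute.refl x).zpow_zpow i j).eq))
  refine ⟨fun a ha b hb => ?_, fun a ha => ?_⟩
  · rw [← hr] at ha hb
    obtain ⟨g, rfl⟩ := ha
    obtain ⟨h, rfl⟩ := hb
    exact (hab g h).map f
  · rw [← hr] at ha
    obtain ⟨g, rfl⟩ := ha
    rw [← map_pow, show g ^ p = 1 from Prod.ext (Subtype.ext (hA.2 _ g.1.2)) (Subtype.ext (by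
      obtain ⟨i, hi⟩ := Subgroup.mem_zpowers_iff.1 g.2.2
      show (g.2 : G) ^ p = 1
      rw [← hi, ← zpow_natCast, ← zpow_mul, mul_comm, zpow_mul, zpow_natCast, hx, one_zpow])),
      map_one]

theorem card_sup_zpowers [Fact p.Prime] {A : Subgroup G} {x : G} (hx : x ^ p = 1) (hxA : x ∉ A)
    (hc : ∀ a ∈ A, Commute a x) :
    Nat.card ↥(A ⊔ Subgroup.zpowers x) = Nat.card ↥A * p := by
  have ho : orderOf x = p := orderOf_eq_prime hx (fun h => hxA (h ▸ one_mem A))
  set f : ↥A × ↥(Subgroup.zpowers x) →* G := MonoidHom.noncommCoprod A.subtype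
    (Subgroup.zpowers x).subtype (fun a b => by
      obtain ⟨i, hi⟩ := Subgroup.mem_zpowers_iff.1 b.2
      show Commute (a : G) (b : G)
      rw [← hi]; exact (hc a a.2).zpow_right i) with hf
  have hr : f.range = A ⊔ Subgroup.zpowers x := by
    rw [hf, MonoidHom.noncommCoprod_range, Subgroup.range_subtype, Subgroup.range_subtype]
  have hinj : Function.Injective f := by
    rw [injective_iff_map_eq_one]
    rintro ⟨a, b⟩ hab
    have hab' : (a : G) * (b : G) = 1 := hab
    have hbA : (b : G) ∈ A := by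
      rw [eq_inv_of_mul_eq_one_right hab']; exact inv_mem a.2
    obtain ⟨i, hi⟩ := Subgroup.mem_zpowers_iff.1 b.2
    have hb1 : (b : G) = 1 := by
      by_contra hb
      have hdvd : ¬ (p : ℤ) ∣ i := fun h => hb (by
        rw [← hi]; exact orderOf_dvd_iff_zpow_eq_one.1 (by rw [ho]; exact h))
      have hcop : Int.gcd i p = 1 := by
        rw [Int.gcd_eq_natAbs, Int.natAbs_natCast, Nat.gcd_comm]
        exact (Nat.Prime.coprime_iff_not_dvd (Fact.out : p.Prime)).2
          (fun h => hdvd (Int.natCast_dvd.2 h))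
      obtain ⟨u, v, huv⟩ : ∃ u v : ℤ, (1 : ℤ) = i * u + p * v :=
        ⟨Int.gcdA i p, Int.gcdB i p, by rw [← Int.gcd_eq_gcd_ab, hcop]; rfl⟩
      apply hxA
      have : x = (x ^ i) ^ u := by
        rw [← zpow_mul]
        conv_lhs => rw [← zpow_one x, huv, zpow_add, zpow_mul x (p : ℤ) v, zpow_natCast, hx,
          one_zpow, mul_one]
      rw [this, hi]
      exact A.zpow_mem hbA u
    rw [hb1, mul_one] at hab'
    exact Prod.ext (Subtype.ext hab') (Subtype.ext hb1)
  rw [← hr, ← Nat.card_congr (MonoidHom.ofInjective hinj).toEquiv, Nat.card_prod,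
    Nat.card_zpowers, ho]

/-- An involution and an element of odd order: splitting into fixed and inverted parts. -/
theorem split [Finite G] {σ x : G} (hσ : σ * σ = 1) (H : Subgroup G) (hx : x ∈ H)
    (hxσ : σ * x * σ⁻¹ ∈ H) (hodd : ∀ h ∈ H, Odd (orderOf h)) :
    ∃ g ∈ Subgroup.zpowers (x⁻¹ * (σ * x * σ⁻¹)),
      g ∈ H ∧ σ * g * σ⁻¹ = g⁻¹ ∧ σ * (x * g) * σ⁻¹ = x * g := by
  set c := x⁻¹ * (σ * x * σ⁻¹) with hc
  have hcH : c ∈ H := mul_mem (inv_mem hx) hxσ
  obtain ⟨k, hk⟩ := hodd c hcH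
  have hσi : σ⁻¹ = σ := inv_eq_of_mul_eq_one_right hσ
  have hci : σ * c * σ⁻¹ = c⁻¹ := by
    calc σ * c * σ⁻¹ = σ * x⁻¹ * σ * x * (σ⁻¹ * σ⁻¹) := by rw [hc]; group
      _ = σ * x⁻¹ * σ * x := by rw [hσi, hσ, mul_one]
      _ = c⁻¹ := by rw [hc, hσi]; simp [mul_assoc, hσi]
  have hgg : c ^ (k + 1) * c ^ (k + 1) = c := by
    rw [← pow_add, show k + 1 + (k + 1) = orderOf c + 1 by omega, pow_succ, pow_orderOf_eq_one,
      one_mul]
  have hgi : σ * c ^ (k + 1) * σ⁻¹ = (c ^ (k + 1))⁻¹ := by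
    rw [← inv_pow, ← hci, conj_pow]
  refine ⟨c ^ (k + 1), Subgroup.npow_mem_zpowers _ _, pow_mem hcH _, hgi, ?_⟩
  calc σ * (x * c ^ (k + 1)) * σ⁻¹ = x * c * (σ * c ^ (k + 1) * σ⁻¹) := by rw [hc]; group
    _ = x * (c ^ (k + 1) * c ^ (k + 1)) * (c ^ (k + 1))⁻¹ := by rw [hgi, hgg]
    _ = x * c ^ (k + 1) := by group

theorem odd_of_pgroup [Fact p.Prime] (hp : p ≠ 2) {H : Subgroup G} (hH : IsPGroup p H) :
    ∀ h ∈ H, Odd (orderOf h) := by
  intro h hh
  obtain ⟨k, hk⟩ := IsPGroup.iff_orderOf.1 hH ⟨h, hh⟩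
  rw [Subgroup.orderOf_mk] at hk
  rw [hk]
  exact ((Fact.out : p.Prime).odd_of_ne_two hp).pow

theorem coprime_two [Fact p.Prime] (hp : p ≠ 2) : Nat.Coprime 2 p :=
  (Nat.coprime_primes Nat.prime_two Fact.out).2 (Ne.symm hp)

variable [Finite G] [Fact p.Prime]

/-- Two commuting involutions on a `p`-group: `u` centralises it as soon as it centralises the
elements of order `p` fixed by each of `u`, `v`, `u v`. -/
theorem centralizes_of_klein (hp : p ≠ 2) {R : Subgroup G} (hR : IsPGroup p R) {u v : G}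
    (hu : orderOf u = 2) (hv : orderOf v = 2) (huv : Commute u v) (hne : u ≠ v)
    (hun : u ∈ Subgroup.normalizer (R : Set G)) (hvn : v ∈ Subgroup.normalizer (R : Set G))
    (h : ∀ w, (w = u ∨ w = v ∨ w = u * v) → ∀ y ∈ R, y ^ p = 1 → Commute w y → Commute u y) :
    ∀ y ∈ R, Commute u y := by
  classical
  set A := Subgroup.closure ({u, v} : Set G) with hA
  haveI : IsMulCommutative A := Subgroup.isMulCommutative_closure (by
    rintro a (rfl | rfl) b (rfl | rfl)
    exacts [rfl, huv.eq, huv.eq.symm, rfl])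
  have hu2 : u * u = 1 := by rw [← sq, ← hu, pow_orderOf_eq_one]
  have hv2 : v * v = 1 := by rw [← sq, ← hv, pow_orderOf_eq_one]
  have hmem : ∀ a ∈ A, a = 1 ∨ a = u ∨ a = v ∨ a = u * v := by
    intro a ha
    induction ha using Subgroup.closure_induction with
    | mem a ha => rcases ha with rfl | rfl <;> simp
    | one => simp
    | mul a b _ _ iha ihb =>
      have huvu : u * v * u = v := by rw [mul_assoc, ← huv.eq, ← mul_assoc, hu2, one_mul]
      have hvu : v * u = u * v := huv.eq.symm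
      have hvuv : v * (u * v) = u := by rw [← mul_assoc, hvu, mul_assoc, hv2, mul_one]
      have huvv : u * v * v = u := by rw [mul_assoc, hv2, mul_one]
      have huuv : u * (u * v) = v := by rw [← mul_assoc, hu2, one_mul]
      have h4 : u * v * (u * v) = 1 := by rw [← mul_assoc, huvu, hv2]
      rcases iha with rfl | rfl | rfl | rfl <;> rcases ihb with rfl | rfl | rfl | rfl <;>
        simp [hu2, hv2, hvu, huvu, hvuv, huvv, huuv, h4]
    | inv a _ ih =>
      have hui : u⁻¹ = u := inv_eq_of_mul_eq_one_right hu2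
      have hvi : v⁻¹ = v := inv_eq_of_mul_eq_one_right hv2
      rcases ih with rfl | rfl | rfl | rfl <;> simp [hui, hvi, huv.eq]
  have hA2 : IsPGroup 2 A := fun a => ⟨1, Subtype.ext (by
    rcases hmem a a.2 with h | h | h | h <;> simp only [Subgroup.coe_pow, Subgroup.coe_mul, Subgroup.coe_one, pow_one, h, sq]
    · exact mul_one 1
    · exact hu2
    · exact hv2
    · rw [huv.symm.mul_mul_mul_comm, hu2, hv2, one_mul])⟩
  have hnc : ¬ IsCyclic A := by
    intro hc
    obtain ⟨g, hg⟩ := hc.exists_generator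
    have hgsq : g * g = 1 := Subtype.ext (by
      rcases hmem g g.2 with h | h | h | h <;> simp only [Subgroup.coe_mul, Subgroup.coe_one, h]
      · exact mul_one 1
      · exact hu2
      · exact hv2
      · rw [huv.symm.mul_mul_mul_comm, hu2, hv2, one_mul])
    have two : ∀ a : A, a = 1 ∨ a = g := by
      intro a
      obtain ⟨i, rfl⟩ := Subgroup.mem_zpowers_iff.1 (hg a)
      rcases Int.even_or_odd i with ⟨k, rfl⟩ | ⟨k, rfl⟩
      · left; rw [← two_mul, zpow_mul, zpow_ofNat, sq, hgsq, one_zpow]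
      · right; rw [zpow_add, zpow_mul, zpow_ofNat, sq, hgsq, one_zpow, one_mul, zpow_one]
    have hu' : (⟨u, Subgroup.subset_closure (by simp)⟩ : A) ≠ 1 := fun h => by
      have h' : u = 1 := congrArg Subtype.val h
      rw [h', orderOf_one] at hu
      omega
    have hv' : (⟨v, Subgroup.subset_closure (by simp)⟩ : A) ≠ 1 := fun h => by
      have h' : v = 1 := congrArg Subtype.val h
      rw [h', orderOf_one] at hv
      omega
    exact hne (congrArg Subtype.val (((two _).resolve_left hu').trans ((two _).resolve_left hv').symm))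
  have hAR : A ≤ Subgroup.normalizer (R : Set G) := by
    rw [hA, Subgroup.closure_le]
    rintro a (rfl | rfl)
    exacts [hun, hvn]
  have hcop : (Nat.card A).Coprime (Nat.card R) := IsPGroup.coprime_card_of_ne 2 p (Ne.symm hp) _ _ hA2 hR
  have hgen := CoprimeAct.generated_by_centralizers hnc hAR hcop
  have hle : R ≤ Subgroup.centralizer ({u} : Set G) := by
    rw [← hgen]
    refine iSup₂_le fun w hw => ?_
    obtain ⟨hwA, hw1⟩ := hw
    have hw' : w = u ∨ w = v ∨ w = u * v := (hmem w hwA).resolve_left hw1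
    intro y hy
    have hwu : Commute w u := congrArg Subtype.val
      (mul_comm' (⟨w, hwA⟩ : A) ⟨u, Subgroup.subset_closure (by simp)⟩)
    have huQ : u ∈ Subgroup.normalizer ((R ⊓ Subgroup.centralizer ({w} : Set G) : Subgroup G) : Set G) :=
      Subgroup.inf_normalizer_le_normalizer_inf (Subgroup.mem_inf.2 ⟨hun,
        Subgroup.le_normalizer (Subgroup.mem_centralizer_singleton_iff.2 hwu.symm.eq)⟩)
    rw [Subgroup.mem_centralizer_singleton_iff]
    exact (LEOmega.commute_of_omega hp (x := u) (by rw [hu]; exact coprime_two hp) _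
        (R ⊓ Subgroup.centralizer ({w} : Set G)) le_rfl (hR.to_le inf_le_left) huQ
        (fun a ha ha' => (h w hw' a ha.1 ha'
          (Subgroup.mem_centralizer_singleton_iff.1 ha.2).symm).eq) y hy).symm
  intro y hy
  exact (Subgroup.mem_centralizer_singleton_iff.1 (hle hy)).symm

/-- `O_p(N(A)) ∩ C(A)`. -/
def Rof (p : ℕ) (A : Subgroup G) : Subgroup G :=
  (Cfsg.pCore p ↥(Subgroup.normalizer (A : Set G))).map (Subgroup.normalizer (A : Set G)).subtype ⊓
    Subgroup.centralizer (A : Set G)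

theorem isPGroup_rof (A : Subgroup G) : IsPGroup p (Rof p A) :=
  (AxB.isPGroup_pCoreOf p _).to_le inf_le_left

theorem rof_le (A : Subgroup G) : Rof p A ≤ Subgroup.centralizer (A : Set G) := inf_le_right

theorem commute_of_mem_rof {A : Subgroup G} {y a : G} (hy : y ∈ Rof p A) (ha : a ∈ A) :
    Commute a y := Subgroup.mem_centralizer_iff.1 (rof_le A hy) a ha

theorem IsEl.le_rof {A : Subgroup G} (hA : IsEl p A) : A ≤ Rof p A :=
  le_inf (AxB.le_pCoreOf Subgroup.le_normalizer le_rfl hA.isPGroup)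
    (fun a ha => Subgroup.mem_centralizer_iff.2 fun b hb => hA.1 b hb a ha)

theorem conj_mem_rof {A : Subgroup G} {g y : G} (hg : g ∈ Subgroup.normalizer (A : Set G))
    (hy : y ∈ Rof p A) : g * y * g⁻¹ ∈ Rof p A := by
  obtain ⟨h1, h2⟩ := hy
  refine ⟨(Subgroup.mem_normalizer_iff.1 (AxB.le_normalizer_map_subtype (inferInstance) hg) y).1 h1, ?_⟩
  show g * y * g⁻¹ ∈ Subgroup.centralizer (A : Set G)
  rw [Subgroup.mem_centralizer_iff]
  intro a ha
  have h3 := Subgroup.mem_centralizer_iff.1 h2 (g⁻¹ * a * g)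
    ((Subgroup.mem_normalizer_iff''.1 hg a).1 ha)
  calc a * (g * y * g⁻¹) = g * ((g⁻¹ * a * g) * y) * g⁻¹ := by group
    _ = g * (y * (g⁻¹ * a * g)) * g⁻¹ := by rw [h3]
    _ = g * y * g⁻¹ * a := by group

theorem normalizer_le_rof (A : Subgroup G) :
    Subgroup.normalizer (A : Set G) ≤ Subgroup.normalizer (Rof p A : Set G) := by
  intro g hg
  rw [Subgroup.mem_normalizer_iff]
  intro y
  refine ⟨fun hy => conj_mem_rof hg hy, fun hy => ?_⟩
  have := conj_mem_rof (p := p) (inv_mem hg) hy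
  simpa [mul_assoc] using this

/-- Every `p'`-element of `C(A)` centralising `O_p(N(A)) ∩ C(A)` is trivial. -/
theorem faithful (hP : Cfsg.IsOfLocalCharacteristic p G) {A : Subgroup G} (hA : IsEl p A)
    (hA1 : A ≠ ⊥) {x : G} (hx : x ∈ Subgroup.centralizer (A : Set G)) {n : ℕ} (hxn : x ^ n = 1)
    (hn : p.Coprime n) (h : ∀ y ∈ Rof p A, Commute x y) : x = 1 := by
  set N := Subgroup.normalizer (A : Set G) with hN
  set O := (Cfsg.pCore p ↥N).map N.subtype with hO
  have hxN : x ∈ N := Subgroup.centralizer_le_normalizer _ hx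
  have hOn : N ≤ Subgroup.normalizer (O : Set G) := AxB.le_normalizer_map_subtype inferInstance
  have hcent : ∀ y ∈ O, x * y = y * x := by
    refine AxB.thompson (A := A) (AxB.isPGroup_pCoreOf p _) hA.isPGroup
      (Subgroup.le_normalizer.trans hOn)
      (fun y hy => (Subgroup.mem_normalizer_iff.1 (hOn hxN) y).1 hy)
      (fun a ha => Subgroup.mem_centralizer_iff.1 hx a ha) hxn hn ?_
    intro y hy hyA
    exact (h y ⟨hy, Subgroup.mem_centralizer_iff.2 hyA⟩).eq
  have hmem : (⟨x, hxN⟩ : ↥N) ∈ Cfsg.pCore p ↥N := by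
    refine hP.2 A hA.isPGroup hA1 ?_
    rw [Subgroup.mem_centralizer_iff]
    intro y hy
    exact Subtype.ext (hcent y ⟨y, hy, rfl⟩).symm
  obtain ⟨k, hk⟩ := IsPGroup.iff_orderOf.1 (AxB.isPGroup_pCore p) ⟨_, hmem⟩
  rw [Subgroup.orderOf_mk, Subgroup.orderOf_mk] at hk
  have hd : orderOf x ∣ n := orderOf_dvd_of_pow_eq_one hxn
  rw [hk] at hd
  have : Nat.Coprime (p ^ k) n := hn.pow_left k
  rw [← orderOf_eq_one_iff, hk]
  exact Nat.Coprime.eq_one_of_dvd this hd

theorem faithful_two (hp : p ≠ 2) (hP : Cfsg.IsOfLocalCharacteristic p G) {A : Subgroup G}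
    (hA : IsEl p A) (hA1 : A ≠ ⊥) {u : G} (hu : orderOf u = 2)
    (hux : u ∈ Subgroup.centralizer (A : Set G)) : ¬ ∀ y ∈ Rof p A, Commute u y := by
  intro h
  have := faithful hP hA hA1 hux (n := 2) (by rw [← hu, pow_orderOf_eq_one]) (coprime_two hp).symm h
  rw [this, orderOf_one] at hu
  omega

/-- Rank bound: an involution centralising an elementary abelian `p`-group. -/
def Bnd (p m : ℕ) (G : Type*) [Group G] : Prop :=
  ∀ (A : Subgroup G) (u : G), IsEl p A → orderOf u = 2 → u ∈ Subgroup.centralizer (A : Set G) →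
    Nat.card A ≤ p ^ m

theorem exists_fixed_of_klein (hp : p ≠ 2) (hP : Cfsg.IsOfLocalCharacteristic p G)
    {A : Subgroup G} (hA : IsEl p A) (hA1 : A ≠ ⊥) {u v : G} (hu : orderOf u = 2)
    (hv : orderOf v = 2) (huv : Commute u v) (hne : u ≠ v)
    (hua : u ∈ Subgroup.centralizer (A : Set G)) (hva : v ∈ Subgroup.centralizer (A : Set G)) :
    ∃ w x, (w = u ∨ w = v ∨ w = u * v) ∧ x ∈ Rof p A ∧ x ^ p = 1 ∧ x ∉ A ∧ Commute w x := by
  by_contra hcon
  push Not at hcon
  apply faithful_two hp hP hA hA1 hu hua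
  refine centralizes_of_klein hp (isPGroup_rof A) hu hv huv hne
    (normalizer_le_rof A (Subgroup.centralizer_le_normalizer _ hua))
    (normalizer_le_rof A (Subgroup.centralizer_le_normalizer _ hva)) ?_
  intro w hw y hy hyp hwy
  by_cases hyA : y ∈ A
  · exact (Subgroup.mem_centralizer_iff.1 hua y hyA).symm
  · exact absurd hwy (hcon w y hw hy hyp hyA)

theorem orderOf_mul_two {u v : G} (hu : orderOf u = 2) (hv : orderOf v = 2) (huv : Commute u v)
    (hne : u ≠ v) : orderOf (u * v) = 2 := by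
  haveI : Fact (Nat.Prime 2) := ⟨Nat.prime_two⟩
  refine orderOf_eq_prime ?_ (fun h => hne ?_)
  · rw [huv.mul_pow, show u ^ 2 = 1 from hu ▸ pow_orderOf_eq_one u,
      show v ^ 2 = 1 from hv ▸ pow_orderOf_eq_one v, one_mul]
  · have hv' : v⁻¹ = v := inv_eq_of_mul_eq_one_right (by
      rw [← sq]; exact hv ▸ pow_orderOf_eq_one v)
    rw [eq_inv_of_mul_eq_one_left h, hv']

theorem mem_centralizer_sup_zpowers {A : Subgroup G} {u x : G}
    (hua : u ∈ Subgroup.centralizer (A : Set G)) (hux : Commute u x) :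
    u ∈ Subgroup.centralizer ((A ⊔ Subgroup.zpowers x : Subgroup G) : Set G) := by
  have hle : A ⊔ Subgroup.zpowers x ≤ Subgroup.centralizer ({u} : Set G) :=
    sup_le (fun a ha => Subgroup.mem_centralizer_singleton_iff.2
        (Subgroup.mem_centralizer_iff.1 hua a ha))
      (Subgroup.zpowers_le.2 (Subgroup.mem_centralizer_singleton_iff.2 hux.symm.eq))
  exact Subgroup.mem_centralizer_iff.2 fun a ha => Subgroup.mem_centralizer_singleton_iff.1 (hle ha)

/-- No four-group centralises an elementary abelian group of maximal order. -/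
theorem no_klein (hp : p ≠ 2) (hP : Cfsg.IsOfLocalCharacteristic p G) {m : ℕ} (hm : 1 ≤ m)
    (hB : Bnd p m G) {A : Subgroup G} (hA : IsEl p A) (hcard : Nat.card A = p ^ m) {u v : G}
    (hu : orderOf u = 2) (hv : orderOf v = 2) (huv : Commute u v)
    (hua : u ∈ Subgroup.centralizer (A : Set G)) (hva : v ∈ Subgroup.centralizer (A : Set G)) :
    u = v := by
  by_contra hne
  have hA1 : A ≠ ⊥ := fun h => by
    rw [h, Subgroup.card_bot] at hcard
    have := Nat.one_lt_pow (by omega : m ≠ 0) (Fact.out : p.Prime).one_lt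
    omega
  obtain ⟨w, x, hw, hxR, hxp, hxA, hwx⟩ := exists_fixed_of_klein hp hP hA hA1 hu hv huv hne hua hva
  have hc : ∀ a ∈ A, Commute a x := fun a ha => commute_of_mem_rof hxR ha
  have hwo : orderOf w = 2 := by
    rcases hw with rfl | rfl | rfl
    exacts [hu, hv, orderOf_mul_two hu hv huv hne]
  have hwa : w ∈ Subgroup.centralizer (A : Set G) := by
    rcases hw with rfl | rfl | rfl
    exacts [hua, hva, mul_mem hua hva]
  have := hB _ w (hA.sup_zpowers hxp hc) hwo (mem_centralizer_sup_zpowers hwa hwx)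
  rw [card_sup_zpowers hxp hxA hc, hcard] at this
  have h1 := (Fact.out : p.Prime).one_lt
  have h2 : 0 < p ^ m := by positivity
  nlinarith

/-- No elementary group of order eight centralises a group of order `p ^ (m - 1)`. -/
theorem no_eight (hp : p ≠ 2) (hP : Cfsg.IsOfLocalCharacteristic p G) {m : ℕ}
    (hB : Bnd p (m + 1) G) {A : Subgroup G} (hA : IsEl p A) (hcard : Nat.card A = p ^ m)
    (hm : 1 ≤ m) {u v w : G} (hu : orderOf u = 2) (hv : orderOf v = 2) (hw : orderOf w = 2)
    (huv : Commute u v) (huw : Commute u w) (hvw : Commute v w)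
    (hua : u ∈ Subgroup.centralizer (A : Set G)) (hva : v ∈ Subgroup.centralizer (A : Set G))
    (hwa : w ∈ Subgroup.centralizer (A : Set G))
    (hne : u ≠ v) (h1 : w ≠ u) (h2 : w ≠ v) (h3 : w ≠ u * v) : False := by
  have hA1 : A ≠ ⊥ := fun h => by
    rw [h, Subgroup.card_bot] at hcard
    have := Nat.one_lt_pow (by omega : m ≠ 0) (Fact.out : p.Prime).one_lt
    omega
  obtain ⟨w1, x, hw1, hxR, hxp, hxA, hw1x⟩ :=
    exists_fixed_of_klein hp hP hA hA1 hu hv huv hne hua hva
  obtain ⟨a, ha, hao, haw, ha1, hac, haa⟩ : ∃ a, (a = u ∨ a = v) ∧ orderOf a = 2 ∧ Commute a w ∧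
      a ≠ w1 ∧ Commute a w1 ∧ a ∈ Subgroup.centralizer (A : Set G) := by
    rcases hw1 with rfl | rfl | rfl
    · exact ⟨v, Or.inr rfl, hv, hvw, Ne.symm hne, huv.symm, hva⟩
    · exact ⟨u, Or.inl rfl, hu, huw, hne, huv, hua⟩
    · refine ⟨u, Or.inl rfl, hu, huw, fun h => ?_, (Commute.refl u).mul_right huv, hua⟩
      rw [eq_comm, mul_eq_left] at h
      rw [h, orderOf_one] at hv
      omega
  have hw1o : orderOf w1 = 2 := by
    rcases hw1 with rfl | rfl | rfl
    exacts [hu, hv, orderOf_mul_two hu hv huv hne]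
  have hw1a : w1 ∈ Subgroup.centralizer (A : Set G) := by
    rcases hw1 with rfl | rfl | rfl
    exacts [hua, hva, mul_mem hua hva]
  have hw1w : Commute w1 w := by
    rcases hw1 with rfl | rfl | rfl
    exacts [huw, hvw, huw.mul_left hvw]
  have hww1 : w ≠ w1 := by rcases hw1 with rfl | rfl | rfl <;> assumption
  have haw' : a ≠ w := by
    rcases ha with rfl | rfl
    exacts [Ne.symm h1, Ne.symm h2]
  have haw1 : a * w ≠ w1 := by
    intro h
    have hw' : w = a * w1 := by
      rw [← h, ← mul_assoc, ← sq, show a ^ 2 = 1 from hao ▸ pow_orderOf_eq_one a, one_mul]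
    have hu2 : u * u = 1 := by rw [← sq]; exact hu ▸ pow_orderOf_eq_one u
    have hv2 : v * v = 1 := by rw [← sq]; exact hv ▸ pow_orderOf_eq_one v
    rcases ha with rfl | rfl <;> rcases hw1 with rfl | rfl | rfl
    · exact ha1 rfl
    · exact h3 hw'
    · exact h2 (by rw [hw', ← mul_assoc, hu2, one_mul])
    · exact h3 (by rw [hw', huv.eq])
    · exact ha1 rfl
    · exact h1 (by rw [hw', huv.eq, ← mul_assoc, hv2, one_mul])
  -- an element of order `p` outside `A` centralised by two commuting involutions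
  have key : ∀ y : G, y ∈ Rof p A → y ^ p = 1 → y ∉ A → Commute w1 y → ∀ z : G, orderOf z = 2 →
      z ∈ Subgroup.centralizer (A : Set G) → Commute z w1 → Commute z y → z = w1 := by
    intro y hy hyp hyA hw1y z hz hza hzw hzy
    have hc : ∀ a ∈ A, Commute a y := fun a ha => commute_of_mem_rof hy ha
    exact no_klein hp hP (by omega) hB (hA.sup_zpowers hyp hc)
      (by rw [card_sup_zpowers hyp hyA hc, hcard, pow_succ]) hz hw1o hzw
      (mem_centralizer_sup_zpowers hza hzy) (mem_centralizer_sup_zpowers hw1a hw1y)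
  set R1 := Rof p A ⊓ Subgroup.centralizer ({w1} : Set G) with hR1
  have hn : ∀ z : G, z ∈ Subgroup.centralizer (A : Set G) → Commute z w1 →
      z ∈ Subgroup.normalizer (R1 : Set G) := fun z hz hzw =>
    Subgroup.inf_normalizer_le_normalizer_inf (Subgroup.mem_inf.2
      ⟨normalizer_le_rof A (Subgroup.centralizer_le_normalizer _ hz),
        Subgroup.le_normalizer (Subgroup.mem_centralizer_singleton_iff.2 hzw.eq)⟩)
  have hcent : ∀ y ∈ R1, Commute a y := by
    refine centralizes_of_klein hp ((isPGroup_rof A).to_le inf_le_left) hao hw haw haw'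
      (hn a haa hac) (hn w hwa hw1w.symm) ?_
    intro z hz y hy hyp hzy
    by_cases hyA : y ∈ A
    · exact (Subgroup.mem_centralizer_iff.1 haa y hyA).symm
    · exfalso
      have hy1 : Commute w1 y := (Subgroup.mem_centralizer_singleton_iff.1 hy.2).symm
      rcases hz with rfl | rfl | rfl
      · exact ha1 (key y hy.1 hyp hyA hy1 _ hao haa hac hzy)
      · exact hww1 (key y hy.1 hyp hyA hy1 _ hw hwa hw1w.symm hzy)
      · exact haw1 (key y hy.1 hyp hyA hy1 _ (orderOf_mul_two hao hw haw haw') (mul_mem haa hwa)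
          (hac.mul_left hw1w.symm) hzy)
  have hax : Commute a x := hcent x ⟨hxR, Subgroup.mem_centralizer_singleton_iff.2 hw1x.symm.eq⟩
  exact ha1 (key x hxR hxp hxA hw1x a hao haa hac hax)

end Cfsg.Agent.KlingerMason
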