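/-
A p-group generated by elements inverted by an involution whose fixed points are centralised by a
four-group with a transversal element has class at most two.
-/
import Cfsg.Agent.Lib.CharTwoP.Basic
import Cfsg.Agent.Lib.Solvable.NilpotentFrattini

set_option autoImplicit false
set_option linter.unusedSectionVars false
set_option linter.unusedSimpArgs false
set_option linter.style.haveILetI false

namespace Cfsg.Agent.KlingerMason

open scoped commutatorElement

variable {G : Type*} [Group G] [Finite G] {p : ℕ} [Fact p.Prime]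

theorem mem_of_sq_mem {H : Subgroup G} {x : G} (hx : Odd (orderOf x)) (h : x * x ∈ H) : x ∈ H := by
  obtain ⟨k, hk⟩ := hx
  have h1 : (x * x) ^ (k + 1) = x := by
    rw [← sq, ← pow_mul, show 2 * (k + 1) = orderOf x + 1 by omega, pow_succ, pow_orderOf_eq_one,
      one_mul]
  exact h1 ▸ pow_mem h _

theorem conj_inv_mem_commutator {L : Subgroup G} {g u : G}
    (hg : g ∈ L) (hu : u ∈ (⁅L, L⁆ : Subgroup G)) :
    g * u * g⁻¹ ∈ (⁅L, L⁆ : Subgroup G) := by
  have hgn : g ∈ Subgroup.normalizer ((⁅L, L⁆ : Subgroup G) : Set G) :=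
    Subgroup.normalizer_commutator_ge_left L L hg
  exact (Subgroup.mem_normalizer_iff.1 hgn u).1 hu

/-- The case of class at most three. -/
theorem class_two_aux (hp : p ≠ 2) {L : Subgroup G} (hL : IsPGroup p L) {I : Set G}
    (hI : L = Subgroup.closure I) {t s σ : G} (ht : orderOf t = 2) (hs : orderOf s = 2)
    (hts : Commute t s) (hne : t ≠ s) (hσt : σ * t * σ⁻¹ = t) (hσs : σ * s * σ⁻¹ = s * t)
    (htL : t ∈ Subgroup.normalizer (L : Set G)) (hsL : s ∈ Subgroup.normalizer (L : Set G))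
    (hσL : σ ∈ Subgroup.normalizer (L : Set G))
    (hIinv : ∀ x ∈ I, t * x * t⁻¹ = x⁻¹)
    (hN : ∀ y ∈ L, Commute t y → Commute s y ∧ Commute σ y)
    (h4 : ⁅⁅⁅L, L⁆, L⁆, L⁆ = (⊥ : Subgroup G)) :
    ∀ a ∈ L, ∀ b ∈ L, ∀ c ∈ L, Commute ⁅a, b⁆ c := by
  classical
  have hodd := odd_of_pgroup hp hL
  set L2 : Subgroup G := ⁅L, L⁆ with hL2
  set L3 : Subgroup G := ⁅L2, L⁆ with hL3
  have h2L : L2 ≤ L := Subgroup.commutator_le_self L
  have hLn2 : L ≤ Subgroup.normalizer (L2 : Set G) := Subgroup.normalizer_commutator_ge_left L L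
  have h32 : L3 ≤ L2 := CoprimeAct.commutator_le_left hLn2
  have h3L := h32.trans h2L
  have hcen : ∀ w ∈ L3, ∀ a ∈ L, Commute w a := fun w hw a ha =>
    commutatorElement_eq_one_iff_mul_comm.1 (by
      have : ⁅w, a⁆ ∈ (⁅L3, L⁆ : Subgroup G) := Subgroup.commutator_mem_commutator hw ha
      rwa [h4, Subgroup.mem_bot] at this)
  have h23 : ∀ u ∈ L2, ∀ a ∈ L, ⁅u, a⁆ ∈ L3 := fun u hu a ha =>
    Subgroup.commutator_mem_commutator hu ha
  have hconj : ∀ g, g ∈ Subgroup.normalizer (L : Set G) →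
      (∀ u ∈ L2, g * u * g⁻¹ ∈ L2) ∧ (∀ w ∈ L3, g * w * g⁻¹ ∈ L3) := by
    intro g hg
    have hL' := AxB.map_conj_eq_of_mem_normalizer hg
    have e2 : L2.map (MulAut.conj g).toMonoidHom = L2 := by
      rw [hL2, Subgroup.map_commutator, hL']
    have e3 : L3.map (MulAut.conj g).toMonoidHom = L3 := by
      rw [hL3, Subgroup.map_commutator, hL', e2]
    exact ⟨fun u hu => e2 ▸ Subgroup.mem_map_of_mem (MulAut.conj g).toMonoidHom hu,
      fun w hw => e3 ▸ Subgroup.mem_map_of_mem (MulAut.conj g).toMonoidHom hw⟩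
  have htc : ∀ x, x ∈ L → t * x * t⁻¹ ∈ L := fun x hx =>
    (Subgroup.mem_normalizer_iff.1 htL x).1 hx
  -- `t` inverts modulo `L2`
  let Sa : Subgroup G :=
    { carrier := {a | a ∈ L ∧ a * (t * a * t⁻¹) ∈ L2}
      one_mem' := ⟨one_mem _, by simp⟩
      mul_mem' := by
        rintro a b ⟨ha, ha'⟩ ⟨hb, hb'⟩
        refine ⟨mul_mem ha hb, ?_⟩
        have : a * b * (t * (a * b) * t⁻¹) = (a * (t * a * t⁻¹)) * ⁅(t * a * t⁻¹)⁻¹, b⁆ *
            (b * (t * b * t⁻¹)) := by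
          simp only [commutatorElement_def]; group
        rw [this]
        exact mul_mem (mul_mem ha' (Subgroup.commutator_mem_commutator (inv_mem (htc a ha)) hb)) hb'
      inv_mem' := by
        rintro a ⟨ha, ha'⟩
        refine ⟨inv_mem ha, ?_⟩
        have : a⁻¹ * (t * a⁻¹ * t⁻¹) = (a⁻¹ * (a * (t * a * t⁻¹)) * a⁻¹⁻¹)⁻¹ := by group
        rw [this]
        exact inv_mem (conj_inv_mem_commutator (inv_mem ha) ha') }
  have hSa : L ≤ Sa := by
    conv_lhs => rw [hI]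
    rw [Subgroup.closure_le]
    intro x hx
    refine ⟨hI ▸ Subgroup.subset_closure hx, ?_⟩
    rw [hIinv x hx, mul_inv_cancel]
    exact one_mem _
  have hfix2 : ∀ n ∈ L, Commute t n → n ∈ L2 := by
    intro n hn hc
    have := (hSa hn).2
    rw [hc.eq, mul_inv_cancel_right] at this
    exact mem_of_sq_mem (hodd n hn) this
  -- `t` fixes `L2` modulo `L3`
  let St : Subgroup G :=
    { carrier := {z | z ∈ L2 ∧ z⁻¹ * (t * z * t⁻¹) ∈ L3}
      one_mem' := ⟨one_mem _, by simp⟩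
      mul_mem' := by
        rintro z z' ⟨hz, hz1⟩ ⟨hz', hz1'⟩
        refine ⟨mul_mem hz hz', ?_⟩
        have : (z * z')⁻¹ * (t * (z * z') * t⁻¹) =
            z'⁻¹ * (z⁻¹ * (t * z * t⁻¹)) * z' * (z'⁻¹ * (t * z' * t⁻¹)) := by group
        rw [this, mul_assoc z'⁻¹, (hcen _ hz1 z' (h2L hz')).eq, inv_mul_cancel_left]
        exact mul_mem hz1 hz1'
      inv_mem' := by
        rintro z ⟨hz, hz1⟩
        refine ⟨inv_mem hz, ?_⟩
        have : z⁻¹⁻¹ * (t * z⁻¹ * t⁻¹) = z * (z⁻¹ * (t * z * t⁻¹))⁻¹ * z⁻¹ := by group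
        rw [this, ← ((hcen _ hz1 z (h2L hz)).inv_left).eq, mul_inv_cancel_right]
        exact inv_mem hz1 }
  have hSt : L2 ≤ St := by
    rw [hL2, Subgroup.commutator_le]
    intro a ha b hb
    refine ⟨Subgroup.commutator_mem_commutator ha hb, ?_⟩
    obtain ⟨l, hl, hal⟩ : ∃ l ∈ L2, t * a * t⁻¹ = a⁻¹ * l :=
      ⟨_, (hSa ha).2, by group⟩
    obtain ⟨l', hl', hbl⟩ : ∃ l' ∈ L2, t * b * t⁻¹ = b⁻¹ * l' :=
      ⟨_, (hSa hb).2, by group⟩
    have e1 : t * ⁅a, b⁆ * t⁻¹ = ⁅a⁻¹ * l, b⁻¹ * l'⁆ := by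
      rw [← hal, ← hbl]; simp only [commutatorElement_def]; group
    have hai := inv_mem ha
    have hbi := inv_mem hb
    have w1 : ⁅l, b⁻¹ * l'⁆ ∈ L3 := h23 l hl _ (mul_mem hbi (h2L hl'))
    have w2 : ⁅a⁻¹, l'⁆ ∈ L3 := by
      rw [← commutatorElement_inv]; exact inv_mem (h23 l' hl' _ hai)
    have e2 : ⁅a⁻¹ * l, b⁻¹ * l'⁆ = ⁅l, b⁻¹ * l'⁆ * ⁅a⁻¹, b⁻¹⁆ * ⁅a⁻¹, l'⁆ := by
      calc ⁅a⁻¹ * l, b⁻¹ * l'⁆ = a⁻¹ * ⁅l, b⁻¹ * l'⁆ * a * (⁅a⁻¹, b⁻¹⁆ * (b⁻¹ * ⁅a⁻¹, l'⁆ * b)) := by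
            simp only [commutatorElement_def]; group
        _ = _ := by
          rw [← (hcen _ w1 a⁻¹ hai).eq, inv_mul_cancel_right,
            ← (hcen _ w2 b⁻¹ hbi).eq, inv_mul_cancel_right, mul_assoc]
    set d := b * a with hd
    have hab : ⁅a, b⁆ ∈ L2 := Subgroup.commutator_mem_commutator ha hb
    have e3 : ⁅a⁻¹, b⁻¹⁆ = ⁅d⁻¹, ⁅a, b⁆⁆ * ⁅a, b⁆ := by
      rw [hd]; simp only [commutatorElement_def]; group
    have w3 : ⁅d⁻¹, ⁅a, b⁆⁆ ∈ L3 := by
      rw [← commutatorElement_inv]; exact inv_mem (h23 _ hab _ (inv_mem (mul_mem hb ha)))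
    rw [e1, e2, e3]
    have : ⁅a, b⁆⁻¹ * (⁅l, b⁻¹ * l'⁆ * (⁅d⁻¹, ⁅a, b⁆⁆ * ⁅a, b⁆) * ⁅a⁻¹, l'⁆) =
        ⁅a, b⁆⁻¹ * (⁅l, b⁻¹ * l'⁆ * ⁅d⁻¹, ⁅a, b⁆⁆) * ⁅a, b⁆ * ⁅a⁻¹, l'⁆ := by group
    rw [this, mul_assoc ⁅a, b⁆⁻¹, (hcen _ (mul_mem w1 w3) _ (h2L hab)).eq, inv_mul_cancel_left]
    exact mul_mem (mul_mem w1 w3) w2
  have ht2 : t * t = 1 := by rw [← sq, ← ht, pow_orderOf_eq_one]
  have hdec : ∀ z ∈ L2, ∃ n w, n ∈ L2 ∧ w ∈ L3 ∧ Commute t n ∧ z = n * w := by
    intro z hz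
    obtain ⟨g, hgz, hg, -, hgf⟩ := split ht2 L (h2L hz) (htc z (h2L hz)) hodd
    have hg3 : g ∈ L3 := Subgroup.zpowers_le.2 (hSt hz).2 hgz
    exact ⟨z * g, g⁻¹, mul_mem hz (h32 hg3), inv_mem hg3, mul_inv_eq_iff_eq_mul.1 hgf, by group⟩
  have hswap : ∀ z ∈ L2, ∀ y ∈ L, Commute (σ * z * σ⁻¹) y → Commute z y := by
    intro z hz y hy h
    obtain ⟨n, w, hn, hw, hnt, rfl⟩ := hdec z hz
    have hσn := (hN n (h2L hn) hnt).2
    have hw' := (hconj σ hσL).2 w hw
    have e : σ * (n * w) * σ⁻¹ = n * (σ * w * σ⁻¹) := by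
      calc σ * (n * w) * σ⁻¹ = σ * n * σ⁻¹ * (σ * w * σ⁻¹) := by group
        _ = _ := by rw [hσn.eq, mul_inv_cancel_right]
    rw [e] at h
    have hn' : Commute n y := by
      have h1 := h.mul_left ((hcen _ hw' y hy).inv_left)
      rwa [mul_inv_cancel_right] at h1
    exact hn'.mul_left (hcen w hw y hy)
  -- the two blocks
  have hs2 : s * s = 1 := by rw [← sq, ← hs, pow_orderOf_eq_one]
  have hti : t⁻¹ = t := inv_eq_of_mul_eq_one_right ht2
  have hsi : s⁻¹ = s := inv_eq_of_mul_eq_one_right hs2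
  let Lp : G → Prop := fun x => x ∈ L ∧ t * x * t⁻¹ = x⁻¹ ∧ s * x * s⁻¹ = x
  let Lm : G → Prop := fun x => x ∈ L ∧ t * x * t⁻¹ = x⁻¹ ∧ s * x * s⁻¹ = x⁻¹
  have hσpm : (∀ x, Lp x → Lm (σ * x * σ⁻¹)) ∧ (∀ x, Lm x → Lp (σ * x * σ⁻¹)) := by
    have hst : σ * (s * t) * σ⁻¹ = s := by
      rw [← conj_mul, hσs, hσt, mul_assoc, ht2, mul_one]
    have hkey : ∀ x, t * (σ * x * σ⁻¹) * t⁻¹ = σ * (t * x * t⁻¹) * σ⁻¹ := fun x => by
      conv_lhs => rw [← hσt]
      group
    have hkey' : ∀ x, s * (σ * x * σ⁻¹) * s⁻¹ = σ * ((s * t) * x * (s * t)⁻¹) * σ⁻¹ := fun x => by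
      conv_lhs => rw [← hst]
      group
    have hstx : ∀ x, (s * t) * x * (s * t)⁻¹ = s * (t * x * t⁻¹) * s⁻¹ := fun x => by group
    refine ⟨fun x hx => ⟨(Subgroup.mem_normalizer_iff.1 hσL x).1 hx.1, ?_, ?_⟩,
      fun x hx => ⟨(Subgroup.mem_normalizer_iff.1 hσL x).1 hx.1, ?_, ?_⟩⟩
    · rw [hkey, hx.2.1, conj_inv]
    · rw [hkey', hstx, hx.2.1, ← conj_inv (a := x) (b := s), hx.2.2, conj_inv]
    · rw [hkey, hx.2.1, conj_inv]
    · rw [hkey', hstx, hx.2.1, ← conj_inv (a := x) (b := s), hx.2.2, inv_inv]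
  have hpm : ∀ x y, Lp x → Lm y → ⁅x, y⁆ ∈ L3 := by
    intro x y hx hy
    have hz : ⁅x, y⁆ ∈ L2 := Subgroup.commutator_mem_commutator hx.1 hy.1
    obtain ⟨n, w, hn, hw, hnt, hzn⟩ := hdec _ hz
    have e1 : s * ⁅x, y⁆ * s⁻¹ = ⁅x, y⁻¹⁆ := by
      have : s * ⁅x, y⁆ * s⁻¹ = ⁅s * x * s⁻¹, s * y * s⁻¹⁆ := by
        simp only [commutatorElement_def]; group
      rw [this, hx.2.2, hy.2.2]
    have e2 : ⁅x, y⁻¹⁆ = ⁅y⁻¹, ⁅x, y⁆⁻¹⁆ * ⁅x, y⁆⁻¹ := by
      simp only [commutatorElement_def]; group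
    have w3 : ⁅y⁻¹, ⁅x, y⁆⁻¹⁆ ∈ L3 := by
      rw [← commutatorElement_inv]; exact inv_mem (h23 _ (inv_mem hz) _ (inv_mem hy.1))
    have hsn := (hN n (h2L hn) hnt).1
    have hw' := (hconj s hsL).2 w hw
    have e3 : s * ⁅x, y⁆ * s⁻¹ = n * (s * w * s⁻¹) := by
      rw [hzn]
      calc s * (n * w) * s⁻¹ = s * n * s⁻¹ * (s * w * s⁻¹) := by group
        _ = _ := by rw [hsn.eq, mul_inv_cancel_right]
    have e4 : n * (s * w * s⁻¹) = ⁅y⁻¹, ⁅x, y⁆⁻¹⁆ * (w⁻¹ * n⁻¹) := by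
      have hi : ⁅x, y⁆⁻¹ = w⁻¹ * n⁻¹ := by rw [hzn, mul_inv_rev]
      rw [← e3, e1, e2]
      exact congrArg (fun u => ⁅y⁻¹, ⁅x, y⁆⁻¹⁆ * u) hi
    have hnn : n * n ∈ L3 := by
      have : n * n = ⁅y⁻¹, ⁅x, y⁆⁻¹⁆ * w⁻¹ * (s * w * s⁻¹)⁻¹ := by
        calc n * n = n * (s * w * s⁻¹) * (s * w * s⁻¹)⁻¹ * n := by group
          _ = ⁅y⁻¹, ⁅x, y⁆⁻¹⁆ * w⁻¹ * (n⁻¹ * ((s * w * s⁻¹)⁻¹ * n)) := by rw [e4]; group
          _ = _ := by rw [((hcen _ hw' n (h2L hn)).inv_left).eq, inv_mul_cancel_left]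
      rw [this]
      exact mul_mem (mul_mem w3 (inv_mem hw)) (inv_mem hw')
    rw [hzn]
    exact mul_mem (mem_of_sq_mem (hodd n (h2L hn)) hnn) hw
  have hmix : ∀ x x' y, x' ∈ L → x ∈ L → y ∈ L → ⁅x, y⁆ ∈ L3 → ⁅x', y⁆ ∈ L3 →
      Commute ⁅x, x'⁆ y := by
    intro x x' y hx' hx hy h h'
    have e1 : y * x * y⁻¹ = x * ⁅x, y⁆⁻¹ := by
      calc y * x * y⁻¹ = ⁅x, y⁆⁻¹ * x := by simp only [commutatorElement_def]; group
        _ = _ := ((hcen _ h x hx).inv_left).eq
    have e2 : y * x' * y⁻¹ = x' * ⁅x', y⁆⁻¹ := by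
      calc y * x' * y⁻¹ = ⁅x', y⁆⁻¹ * x' := by simp only [commutatorElement_def]; group
        _ = _ := ((hcen _ h' x' hx').inv_left).eq
    set c := ⁅x, y⁆⁻¹ with hc
    set c' := ⁅x', y⁆⁻¹ with hc'
    have cc : ∀ a ∈ L, Commute c a := fun a ha => (hcen _ h a ha).inv_left
    have cc' : ∀ a ∈ L, Commute c' a := fun a ha => (hcen _ h' a ha).inv_left
    have e3 : y * ⁅x, x'⁆ * y⁻¹ = ⁅x, x'⁆ := by
      calc y * ⁅x, x'⁆ * y⁻¹ = ⁅y * x * y⁻¹, y * x' * y⁻¹⁆ := by
            simp only [commutatorElement_def]; group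
        _ = ⁅x * c, x' * c'⁆ := by rw [e1, e2]
        _ = x * (c * (x' * c') * c⁻¹) * x⁻¹ * (x' * c')⁻¹ := by
            simp only [commutatorElement_def]; group
        _ = x * (x' * c') * x⁻¹ * (x' * c')⁻¹ := by
            rw [(cc _ (mul_mem hx' (inv_mem (h3L h')))).eq, mul_inv_cancel_right]
        _ = x * x' * (c' * x⁻¹) * c'⁻¹ * x'⁻¹ := by group
        _ = ⁅x, x'⁆ := by rw [(cc' _ (inv_mem hx)).eq, commutatorElement_def]; group
    exact (mul_inv_eq_iff_eq_mul.1 e3).symm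
  have hmp : ∀ x y, Lm x → Lp y → ⁅x, y⁆ ∈ L3 := fun x y hx hy => by
    rw [← commutatorElement_inv]; exact inv_mem (hpm y x hy hx)
  have hgens : ∀ x y z, (Lp x ∨ Lm x) → (Lp y ∨ Lm y) → (Lp z ∨ Lm z) → Commute ⁅x, y⁆ z := by
    have same : ∀ x y z, (Lp x ∧ Lp y ∧ Lp z) ∨ (Lm x ∧ Lm y ∧ Lm z) → Commute ⁅x, y⁆ z := by
      intro x y z h
      have hzL : z ∈ L := by rcases h with ⟨-, -, hz⟩ | ⟨-, -, hz⟩ <;> exact hz.1
      have hxy : ⁅x, y⁆ ∈ L2 := by
        rcases h with ⟨hx, hy, -⟩ | ⟨hx, hy, -⟩ <;>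
          exact Subgroup.commutator_mem_commutator hx.1 hy.1
      refine hswap _ hxy z hzL ?_
      have e : σ * ⁅x, y⁆ * σ⁻¹ = ⁅σ * x * σ⁻¹, σ * y * σ⁻¹⁆ := by
        simp only [commutatorElement_def]; group
      rw [e]
      rcases h with ⟨hx, hy, hz⟩ | ⟨hx, hy, hz⟩
      · exact hmix _ _ _ (hσpm.1 y hy).1 (hσpm.1 x hx).1 hz.1 (hmp _ _ (hσpm.1 x hx) hz)
          (hmp _ _ (hσpm.1 y hy) hz)
      · exact hmix _ _ _ (hσpm.2 y hy).1 (hσpm.2 x hx).1 hz.1 (hpm _ _ (hσpm.2 x hx) hz)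
          (hpm _ _ (hσpm.2 y hy) hz)
    intro x y z hx hy hz
    have hzL : z ∈ L := by rcases hz with h | h <;> exact h.1
    rcases hx with hx | hx <;> rcases hy with hy | hy
    · rcases hz with hz | hz
      · exact same x y z (Or.inl ⟨hx, hy, hz⟩)
      · exact hmix x y z hy.1 hx.1 hz.1 (hpm x z hx hz) (hpm y z hy hz)
    · exact hcen _ (hpm x y hx hy) z hzL
    · exact hcen _ (hmp x y hx hy) z hzL
    · rcases hz with hz | hz
      · exact hmix x y z hy.1 hx.1 hz.1 (hmp x z hx hz) (hmp y z hy hz)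
      · exact same x y z (Or.inr ⟨hx, hy, hz⟩)
  -- generation
  set X := Subgroup.closure {x | Lp x ∨ Lm x} with hX
  have hXL : X ≤ L := by
    rw [hX, Subgroup.closure_le]
    rintro x (h | h) <;> exact h.1
  have hgen : X = L := by
    set Y := X ⊔ L2 with hY
    have hYL : L ≤ Y := by
      set A := Subgroup.closure ({t, s} : Set G) with hA
      haveI : IsMulCommutative A := Subgroup.isMulCommutative_closure (by
        rintro a (rfl | rfl) b (rfl | rfl)
        exacts [rfl, hts.eq, hts.eq.symm, rfl])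
      have hmem : ∀ a ∈ A, a = 1 ∨ a = t ∨ a = s ∨ a = s * t := by
        intro a ha
        induction ha using Subgroup.closure_induction with
        | mem a ha => rcases ha with rfl | rfl <;> simp
        | one => simp
        | mul a b _ _ iha ihb =>
          have hts' : t * s = s * t := hts.eq
          have h1 : t * (s * t) = s := by rw [← mul_assoc, hts', mul_assoc, ht2, mul_one]
          have h2 : s * (s * t) = t := by rw [← mul_assoc, hs2, one_mul]
          have h3 : s * t * t = s := by rw [mul_assoc, ht2, mul_one]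
          have h4' : s * t * s = t := by rw [mul_assoc, hts', ← mul_assoc, hs2, one_mul]
          have h5 : s * t * (s * t) = 1 := by rw [← mul_assoc, h4', ht2]
          rcases iha with rfl | rfl | rfl | rfl <;> rcases ihb with rfl | rfl | rfl | rfl <;>
            simp [ht2, hs2, hts', h1, h2, h3, h4', h5]
        | inv a _ ih => rcases ih with rfl | rfl | rfl | rfl <;> simp [hti, hsi, hts.eq]
      have hnc : ¬ IsCyclic A := by
        intro hc
        obtain ⟨g, hg⟩ := hc.exists_generator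
        have hgsq : g * g = 1 := Subtype.ext (by
          rcases hmem g g.2 with h | h | h | h <;> simp only [Subgroup.coe_mul, Subgroup.coe_one, h]
          · exact mul_one 1
          · exact ht2
          · exact hs2
          · rw [hts.mul_mul_mul_comm, hs2, ht2, one_mul])
        have two : ∀ a : A, a = 1 ∨ a = g := by
          intro a
          obtain ⟨i, rfl⟩ := Subgroup.mem_zpowers_iff.1 (hg a)
          rcases Int.even_or_odd i with ⟨k, rfl⟩ | ⟨k, rfl⟩
          · left; rw [← two_mul, zpow_mul, zpow_ofNat, sq, hgsq, one_zpow]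
          · right; rw [zpow_add, zpow_mul, zpow_ofNat, sq, hgsq, one_zpow, one_mul, zpow_one]
        have ht1 : (⟨t, Subgroup.subset_closure (by simp)⟩ : A) ≠ 1 := fun h => by
          have h' : t = 1 := congrArg Subtype.val h
          rw [h', orderOf_one] at ht
          omega
        have hs1 : (⟨s, Subgroup.subset_closure (by simp)⟩ : A) ≠ 1 := fun h => by
          have h' : s = 1 := congrArg Subtype.val h
          rw [h', orderOf_one] at hs
          omega
        exact hne (congrArg Subtype.val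
          (((two _).resolve_left ht1).trans ((two _).resolve_left hs1).symm))
      have hAL : A ≤ Subgroup.normalizer (L : Set G) := by
        rw [hA, Subgroup.closure_le]
        rintro a (rfl | rfl)
        exacts [htL, hsL]
      have hA2 : IsPGroup 2 A := fun a => ⟨1, Subtype.ext (by
        rcases hmem a a.2 with h | h | h | h <;>
          simp only [Subgroup.coe_pow, Subgroup.coe_mul, Subgroup.coe_one, pow_one, h, sq]
        · exact mul_one 1
        · exact ht2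
        · exact hs2
        · rw [hts.mul_mul_mul_comm, hs2, ht2, one_mul])⟩
      haveI : Fact (Nat.Prime 2) := ⟨Nat.prime_two⟩
      have hcop : (Nat.card A).Coprime (Nat.card L) :=
        IsPGroup.coprime_card_of_ne 2 p (Ne.symm hp) _ _ hA2 hL
      rw [← CoprimeAct.generated_by_centralizers hnc hAL hcop]
      refine iSup₂_le fun a ha => ?_
      obtain ⟨haA, ha1⟩ := ha
      intro y hy
      obtain ⟨hyL, hya⟩ := Subgroup.mem_inf.1 hy
      have hya : Commute a y := (Subgroup.mem_centralizer_singleton_iff.1 hya).symm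
      by_cases hat : a = t
      · exact Subgroup.mem_sup_right (hfix2 y hyL (hat ▸ hya))
      obtain ⟨g, hgz, hgL, hgi, hgf⟩ := split ht2 L hyL (htc y hyL) hodd
      have hat' : Commute a t := by
        rcases (hmem a haA) with rfl | rfl | rfl | rfl
        exacts [Commute.one_left _, rfl, hts.symm, hts.symm.mul_left rfl]
      have hag : Commute a g := by
        obtain ⟨i, rfl⟩ := Subgroup.mem_zpowers_iff.1 hgz
        exact ((hya.inv_right).mul_right ((hat'.mul_right hya).mul_right hat'.inv_right)).zpow_right i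
      have hgX : g ∈ X := by
        refine Subgroup.subset_closure ?_
        rcases ((hmem a haA).resolve_left ha1).resolve_left hat with rfl | rfl
        · exact Or.inl ⟨hgL, hgi, by rw [hag.eq, mul_inv_cancel_right]⟩
        · refine Or.inr ⟨hgL, hgi, ?_⟩
          have e : s * t * g * (s * t)⁻¹ = g := by rw [hag.eq, mul_inv_cancel_right]
          have e' : s * t * g * (s * t)⁻¹ = s * (t * g * t⁻¹) * s⁻¹ := by group
          rw [e', hgi, ← conj_inv, inv_eq_iff_eq_inv] at e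
          exact e
      have hfix : y * g ∈ L2 := hfix2 _ (mul_mem hyL hgL) (mul_inv_eq_iff_eq_mul.1 hgf)
      have : y = y * g * g⁻¹ := by group
      rw [this]
      exact mul_mem (Subgroup.mem_sup_right hfix) (Subgroup.mem_sup_left (inv_mem hgX))
    haveI := hL.isNilpotent
    have htop : X.subgroupOf L ⊔ frattini ↥L = ⊤ := by
      rw [eq_top_iff]
      refine le_trans ?_ (sup_le_sup_left (SolvStruct.commutator_le_frattini ↥L) _)
      intro y _
      have hy : (y : G) ∈ (X.subgroupOf L ⊔ commutator ↥L).map L.subtype := by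
        rw [Subgroup.map_sup, Subgroup.map_subgroupOf_eq_of_le hXL, commutator_def,
          Subgroup.map_commutator, ← MonoidHom.range_eq_map, Subgroup.range_subtype, ← hL2]
        exact hYL y.2
      obtain ⟨y', hy', hyy⟩ := hy
      rw [Subgroup.coe_subtype] at hyy
      exact Subtype.ext hyy ▸ hy'
    exact le_antisymm hXL (Subgroup.subgroupOf_eq_top.1 (frattini_nongenerating htop))
  -- generators' commutators are central, hence all
  intro a ha b hb c hc
  rw [← hgen, hX] at ha hb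
  have hcg : ∀ x y, (Lp x ∨ Lm x) → (Lp y ∨ Lm y) → ∀ c ∈ L, Commute ⁅x, y⁆ c := by
    intro x y hx hy c hc
    rw [← hgen, hX] at hc
    induction hc using Subgroup.closure_induction with
    | mem z hz => exact hgens x y z hx hy hz
    | one => exact Commute.one_right _
    | mul u v _ _ ihu ihv => exact ihu.mul_right ihv
    | inv u _ ih => exact ih.inv_right
  have memL : ∀ {u}, u ∈ Subgroup.closure {x | Lp x ∨ Lm x} → u ∈ L := fun h => hXL h
  have step : ∀ x, (Lp x ∨ Lm x) → ∀ b ∈ Subgroup.closure {x | Lp x ∨ Lm x},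
      ∀ c ∈ L, Commute ⁅x, b⁆ c := by
    intro x hx b hb
    induction hb using Subgroup.closure_induction with
    | mem z hz => exact hcg x z hx hz
    | one => intro c _; simp [commutatorElement_def]
    | mul u v hu hv ihu ihv =>
      intro c hc
      have : ⁅x, u * v⁆ = ⁅x, u⁆ * (u * ⁅x, v⁆ * u⁻¹) := by
        simp only [commutatorElement_def]; group
      rw [this, ← (ihv u (memL hu)).eq, mul_inv_cancel_right]
      exact (ihu c hc).mul_left (ihv c hc)
    | inv u hu ih =>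
      intro c hc
      have : ⁅x, u⁻¹⁆ = u⁻¹ * ⁅x, u⁆⁻¹ * u := by simp only [commutatorElement_def]; group
      rw [this, mul_assoc, (ih u (memL hu)).inv_left.eq, inv_mul_cancel_left]
      exact (ih c hc).inv_left
  revert c
  induction ha using Subgroup.closure_induction with
  | mem z hz => exact step z hz b hb
  | one => intro c _; simp [commutatorElement_def]
  | mul u v hu hv ihu ihv =>
    intro c hc
    have : ⁅u * v, b⁆ = u * ⁅v, b⁆ * u⁻¹ * ⁅u, b⁆ := by simp only [commutatorElement_def]; group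
    rw [this, ← (ihv u (memL hu)).eq, mul_inv_cancel_right]
    exact (ihv c hc).mul_left (ihu c hc)
  | inv u hu ih =>
    intro c hc
    have : ⁅u⁻¹, b⁆ = u⁻¹ * ⁅u, b⁆⁻¹ * u := by simp only [commutatorElement_def]; group
    rw [this, mul_assoc, (ih u (memL hu)).inv_left.eq, inv_mul_cancel_left]
    exact (ih c hc).inv_left

/-- Class at most two. -/
theorem class_two (hp : p ≠ 2) {L : Subgroup G} (hL : IsPGroup p L) {I : Set G}
    (hI : L = Subgroup.closure I) {t s σ : G} (ht : orderOf t = 2) (hs : orderOf s = 2)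
    (hts : Commute t s) (hne : t ≠ s) (hσt : σ * t * σ⁻¹ = t) (hσs : σ * s * σ⁻¹ = s * t)
    (htL : t ∈ Subgroup.normalizer (L : Set G)) (hsL : s ∈ Subgroup.normalizer (L : Set G))
    (hσL : σ ∈ Subgroup.normalizer (L : Set G))
    (hIinv : ∀ x ∈ I, t * x * t⁻¹ = x⁻¹)
    (hN : ∀ y ∈ L, Commute t y → Commute s y ∧ Commute σ y) :
    ∀ a ∈ L, ∀ b ∈ L, ∀ c ∈ L, Commute ⁅a, b⁆ c := by
  classical
  haveI : Fact (Nat.Prime 2) := ⟨Nat.prime_two⟩
  set L2 : Subgroup G := ⁅L, L⁆ with hL2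
  set L3 : Subgroup G := ⁅L2, L⁆ with hL3
  set L4 : Subgroup G := ⁅L3, L⁆ with hL4
  have h2L : L2 ≤ L := Subgroup.commutator_le_self L
  have h32 : L3 ≤ L2 := CoprimeAct.commutator_le_left (Subgroup.normalizer_commutator_ge_left L L)
  have h43 : L4 ≤ L3 := CoprimeAct.commutator_le_left (Subgroup.normalizer_commutator_ge_right L2 L)
  set Γ := Subgroup.normalizer (L : Set G) with hΓ
  have hLΓ : L ≤ Γ := Subgroup.le_normalizer
  have h4L : L4 ≤ L := h43.trans (h32.trans h2L)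
  haveI : (L4.subgroupOf Γ).Normal := by
    refine (Subgroup.normal_subgroupOf_iff_le_normalizer (h4L.trans hLΓ)).2 fun g hg => ?_
    have key : ∀ g ∈ Γ, ∀ w ∈ L4, g * w * g⁻¹ ∈ L4 := by
      intro g hg w hw
      have hL' := AxB.map_conj_eq_of_mem_normalizer hg
      have e : L4.map (MulAut.conj g).toMonoidHom = L4 := by
        simp only [hL4, hL3, hL2, Subgroup.map_commutator, hL']
      exact e ▸ Subgroup.mem_map_of_mem (MulAut.conj g).toMonoidHom hw
    rw [Subgroup.mem_normalizer_iff]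
    exact fun w => ⟨key g hg w, fun h => by simpa [mul_assoc] using key g⁻¹ (inv_mem hg) _ h⟩
  set π := QuotientGroup.mk' (L4.subgroupOf Γ) with hπ
  have hπ1 : ∀ y : ↥Γ, π y = 1 ↔ (y : G) ∈ L4 := fun y => by
    rw [hπ, QuotientGroup.mk'_apply, QuotientGroup.eq_one_iff, Subgroup.mem_subgroupOf]
  set Lq := (L.subgroupOf Γ).map π with hLq
  have hIΓ : I ⊆ Γ := fun x hx => hLΓ (hI ▸ Subgroup.subset_closure hx)
  set Iq : Set (↥Γ ⧸ L4.subgroupOf Γ) := π '' (Γ.subtype ⁻¹' I) with hIq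
  have hIclos : L.subgroupOf Γ = Subgroup.closure (Γ.subtype ⁻¹' I) := by
    apply Subgroup.map_injective Γ.subtype_injective
    rw [Subgroup.map_subgroupOf_eq_of_le hLΓ, MonoidHom.map_closure,
      Set.image_preimage_eq_of_subset (by rw [Subgroup.coe_subtype, Subtype.range_coe]; exact hIΓ)]
    exact hI
  let lift : ∀ g, g ∈ Γ → ↥Γ := fun g hg => ⟨g, hg⟩
  set T := π (lift t htL) with hT
  set S := π (lift s hsL) with hS
  set Sg := π (lift σ hσL) with hSg
  have ht2 : t * t = 1 := by rw [← sq, ← ht, pow_orderOf_eq_one]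
  have hs2 : s * s = 1 := by rw [← sq, ← hs, pow_orderOf_eq_one]
  have hLp := (hL.to_le (le_refl L))
  have hnot4 : ∀ g : G, g * g = 1 → g ∈ L4 → g = 1 := by
    intro g hg hg4
    have hodd := odd_of_pgroup hp hL g (h4L hg4)
    have h0 : g ∈ (⊥ : Subgroup G) := mem_of_sq_mem hodd (Subgroup.mem_bot.2 hg)
    exact Subgroup.mem_bot.1 h0
  have ord2 : ∀ (g : G) (hg : g ∈ Γ), orderOf g = 2 → orderOf (π (lift g hg)) = 2 := by
    intro g hg ho
    have hgg : g * g = 1 := by rw [← sq, ← ho, pow_orderOf_eq_one]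
    refine orderOf_eq_prime ?_ fun h => ?_
    · rw [← map_pow, hπ1]
      show g ^ 2 ∈ L4
      rw [sq, hgg]
      exact one_mem L4
    · have := hnot4 g hgg ((hπ1 _).1 h)
      rw [this, orderOf_one] at ho
      omega
  have hLqp : IsPGroup p Lq := (hL.of_equiv (Subgroup.subgroupOfEquivOfLe hLΓ).symm).map π
  have hnorm : ∀ (g : G) (hg : g ∈ Γ), π (lift g hg) ∈ Subgroup.normalizer (Lq : Set _) := by
    intro g hg
    refine Subgroup.le_normalizer_map π ⟨lift g hg, ?_, rfl⟩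
    rw [SetLike.mem_coe, Subgroup.mem_normalizer_iff]
    intro y
    exact Subgroup.mem_normalizer_iff.1 hg y
  have hcom : ∀ {a b : G} (ha : a ∈ Γ) (hb : b ∈ Γ), Commute a b →
      Commute (π (lift a ha)) (π (lift b hb)) := fun ha hb h =>
    Commute.map (x := lift _ ha) (y := lift _ hb) (Subtype.ext h.eq) π
  have hneq : T ≠ S := by
    intro h
    have hmem : t⁻¹ * s ∈ L4 := by
      have := (hπ1 ((lift t htL)⁻¹ * lift s hsL)).1 (by
        rw [map_mul, map_inv, ← hT, ← hS, h, inv_mul_cancel])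
      simpa [lift] using this
    have hsq : t⁻¹ * s * (t⁻¹ * s) = 1 := by
      rw [inv_eq_of_mul_eq_one_right ht2, hts.symm.mul_mul_mul_comm, ht2, hs2, one_mul]
    exact hne (inv_mul_eq_one.1 (hnot4 _ hsq hmem))
  have hSgt : Sg * T * Sg⁻¹ = T := by
    rw [hSg, hT, ← map_inv, ← map_mul, ← map_mul]
    exact congrArg π (Subtype.ext hσt)
  have hSgs : Sg * S * Sg⁻¹ = S * T := by
    rw [hSg, hS, hT, ← map_inv, ← map_mul, ← map_mul, ← map_mul]
    exact congrArg π (Subtype.ext hσs)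
  have hIqinv : ∀ x ∈ Iq, T * x * T⁻¹ = x⁻¹ := by
    rintro _ ⟨x, hx, rfl⟩
    rw [hT, ← map_inv, ← map_mul, ← map_mul, ← map_inv]
    exact congrArg π (Subtype.ext (hIinv _ hx))
  have hNq : ∀ y ∈ Lq, Commute T y → Commute S y ∧ Commute Sg y := by
    rintro _ ⟨y, hy, rfl⟩ hc
    have hc4 : (y : G)⁻¹ * (t * y * t⁻¹) ∈ L4 := by
      refine (hπ1 (y⁻¹ * (lift t htL * y * (lift t htL)⁻¹))).1 ?_
      rw [map_mul, map_mul, map_mul, map_inv, map_inv, ← hT, hc.eq, mul_inv_cancel_right,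
        inv_mul_cancel]
    obtain ⟨g, hgz, hgL, -, hgf⟩ := split ht2 L hy
      ((Subgroup.mem_normalizer_iff.1 htL _).1 hy) (odd_of_pgroup hp hL)
    have hg4 : g ∈ L4 := Subgroup.zpowers_le.2 hc4 hgz
    have hg1 : π (lift g (hLΓ hgL)) = 1 := (hπ1 _).2 hg4
    have hygL : (y : G) * g ∈ L := mul_mem hy hgL
    obtain ⟨h1, h2⟩ := hN _ hygL (mul_inv_eq_iff_eq_mul.1 hgf)
    have hyg : π (lift _ (hLΓ hygL)) = π y := by
      rw [show lift _ (hLΓ hygL) = y * lift g (hLΓ hgL) from rfl, map_mul, hg1, mul_one]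
    rw [← hyg]
    exact ⟨hcom hsL _ h1, hcom hσL _ h2⟩
  have hmap : ∀ (H : Subgroup G), H ≤ Γ →
      ⁅(H.subgroupOf Γ).map π, Lq⁆ = ((⁅H, L⁆ : Subgroup G).subgroupOf Γ).map π := by
    intro H hH
    rw [hLq, ← Subgroup.map_commutator]
    congr 1
    apply Subgroup.map_injective Γ.subtype_injective
    have hle : (⁅H, L⁆ : Subgroup G) ≤ Γ := Subgroup.commutator_le.2 fun a ha b hb => by
      rw [commutatorElement_def]
      exact mul_mem (mul_mem (mul_mem (hH ha) (hLΓ hb)) (inv_mem (hH ha))) (inv_mem (hLΓ hb))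
    rw [Subgroup.map_commutator, Subgroup.map_subgroupOf_eq_of_le hH,
      Subgroup.map_subgroupOf_eq_of_le hLΓ, Subgroup.map_subgroupOf_eq_of_le hle]
  have h4q : ⁅⁅⁅Lq, Lq⁆, Lq⁆, Lq⁆ = ⊥ := by
    have e1 : ⁅Lq, Lq⁆ = (L2.subgroupOf Γ).map π := hmap L hLΓ
    rw [e1, hmap L2 (h2L.trans hLΓ), ← hL3, hmap L3 ((h32.trans h2L).trans hLΓ), ← hL4,
      (Subgroup.map_eq_bot_iff _)]
    intro y hy
    exact (hπ1 y).2 hy
  have hclass := class_two_aux hp hLqp (I := Iq) (by rw [hLq, hIclos, MonoidHom.map_closure, hIq])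
    (ord2 t htL ht) (ord2 s hsL hs) (hcom htL hsL hts) hneq hSgt hSgs (hnorm t htL) (hnorm s hsL)
    (hnorm σ hσL) hIqinv hNq h4q
  have h34 : L3 ≤ L4 := by
    rw [hL3, Subgroup.commutator_le]
    intro u hu c hc
    revert c
    have h2le : L2 ≤ ({
        carrier := {u | u ∈ L ∧ ∀ c ∈ L, ⁅u, c⁆ ∈ L4}
        one_mem' := ⟨one_mem _, fun c _ => by simp [commutatorElement_def]⟩
        mul_mem' := by
          rintro u v ⟨hu, h⟩ ⟨hv, h'⟩
          refine ⟨mul_mem hu hv, fun c hc => ?_⟩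
          have : ⁅u * v, c⁆ = u * ⁅v, c⁆ * u⁻¹ * ⁅u, c⁆ := by
            simp only [commutatorElement_def]; group
          rw [this]
          exact mul_mem ((Subgroup.mem_normalizer_iff.1
            (Subgroup.normalizer_commutator_ge_right L3 L hu) _).1 (h' c hc)) (h c hc)
        inv_mem' := by
          rintro u ⟨hu, h⟩
          refine ⟨inv_mem hu, fun c hc => ?_⟩
          have : ⁅u⁻¹, c⁆ = u⁻¹ * ⁅u, c⁆⁻¹ * u⁻¹⁻¹ := by
            simp only [commutatorElement_def]; group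
          rw [this]
          exact (Subgroup.mem_normalizer_iff.1
            (Subgroup.normalizer_commutator_ge_right L3 L (inv_mem hu)) _).1 (inv_mem (h c hc)) }
        : Subgroup G) := by
      rw [hL2, Subgroup.commutator_le]
      intro a ha b hb
      refine ⟨h2L (Subgroup.commutator_mem_commutator ha hb), fun c hc => ?_⟩
      have hab : ⁅a, b⁆ ∈ Γ := hLΓ (h2L (Subgroup.commutator_mem_commutator ha hb))
      have := hclass _ ⟨lift a (hLΓ ha), ha, rfl⟩ _ ⟨lift b (hLΓ hb), hb, rfl⟩ _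
        ⟨lift c (hLΓ hc), hc, rfl⟩
      rw [← map_commutatorElement] at this
      have h1 := (hπ1 ⁅⁅lift a (hLΓ ha), lift b (hLΓ hb)⁆, lift c (hLΓ hc)⁆).1 (by
        rw [map_commutatorElement]; exact commutatorElement_eq_one_iff_mul_comm.2 this.eq)
      exact h1
    exact (h2le hu).2
  haveI := hL.isNilpotent
  have h3bot : L3 = ⊥ := AxB.eq_bot_of_commutator_eq (Q := L) (A := L) (h32.trans h2L) le_rfl
    (le_antisymm h43 h34)
  intro a ha b hb c hc
  apply commutatorElement_eq_one_iff_mul_comm.1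
  have : ⁅⁅a, b⁆, c⁆ ∈ L3 :=
    Subgroup.commutator_mem_commutator (Subgroup.commutator_mem_commutator ha hb) hc
  rwa [h3bot, Subgroup.mem_bot] at this

end Cfsg.Agent.KlingerMason
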