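/-
Fixed-point bounds on modules for operators of extraspecial type.
-/
import Mathlib.GroupTheory.Subgroup.Center
import Mathlib.Data.Fintype.Card
import Mathlib.SetTheory.Cardinal.Finite
import Mathlib.Tactic.Abel
import Mathlib.Algebra.Group.Hom.Defs

set_option autoImplicit false
set_option linter.unusedSectionVars false

namespace Cfsg.Agent.KlingerMason

variable {V : Type*} [AddCommGroup V] [Finite V]

/-- An involutory operator with an anticommuting partner splits the space in two equal halves. -/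
theorem card_eigen (S U : V →+ V) (hS : ∀ v, S (S v) = v) (hU : Function.Injective U)
    (hanti : ∀ v, S (U v) = -U (S v)) (h2 : ∀ v : V, v + v = 0 → v = 0) :
    Nat.card V = Nat.card {v : V // S v = -v} * Nat.card {v : V // S v = -v} ∧
      Nat.card {v : V // S v = v} = Nat.card {v : V // S v = -v} := by
  classical
  have e1 : Nat.card {v : V // S v = v} = Nat.card {v : V // S v = -v} := by
    apply le_antisymm
    · exact Nat.card_le_card_of_injective
        (fun v => (⟨U v.1, by rw [hanti, v.2]⟩ : {v : V // S v = -v}))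
        (fun a b h => Subtype.ext (hU (congrArg Subtype.val h)))
    · exact Nat.card_le_card_of_injective
        (fun v => (⟨U v.1, by rw [hanti, v.2, map_neg, neg_neg]⟩ : {v : V // S v = v}))
        (fun a b h => Subtype.ext (hU (congrArg Subtype.val h)))
  refine ⟨?_, e1⟩
  have h : Nat.card V = Nat.card ({v : V // S v = v} × {v : V // S v = -v}) := by
    apply le_antisymm
    · refine Nat.card_le_card_of_injective
        (fun v => ((⟨v + S v, by rw [map_add, hS, add_comm]⟩ : {v : V // S v = v}),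
          (⟨v - S v, by rw [map_sub, hS, neg_sub]⟩ : {v : V // S v = -v}))) ?_
      intro a b h
      simp only [Prod.mk.injEq, Subtype.mk.injEq] at h
      obtain ⟨h1, h3⟩ := h
      rw [← sub_eq_zero]
      apply h2
      calc a - b + (a - b) = (a + S a + (a - S a)) - (b + S b + (b - S b)) := by abel
        _ = 0 := by rw [h1, h3, sub_self]
    · refine Nat.card_le_card_of_injective (fun x => x.1.1 + x.2.1) ?_
      rintro ⟨⟨a, ha⟩, ⟨b, hb⟩⟩ ⟨⟨a', ha'⟩, ⟨b', hb'⟩⟩ h
      simp only at h
      have h3 := congrArg S h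
      rw [map_add, map_add, ha, hb, ha', hb'] at h3
      have haa : a = a' := by
        rw [← sub_eq_zero]
        apply h2
        calc a - a' + (a - a') = (a + b + (a + -b)) - (a' + b' + (a' + -b')) := by abel
          _ = 0 := by rw [h, h3, sub_self]
      subst haa
      have hbb : b = b' := add_left_cancel h
      subst hbb
      rfl
  rw [h, Nat.card_prod, e1]

/-- Four pairwise anticommuting involutions permuted by `F`: `F` fixes at most a third. -/
theorem card_fixed_four (S : ℕ → V →+ V) (F : V →+ V) (hS : ∀ k < 4, ∀ v, S k (S k v) = v)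
    (hanti : ∀ i < 4, ∀ j < 4, i ≠ j → ∀ v, S i (S j v) = -S j (S i v))
    (hF : ∀ k < 3, ∀ v, F (S k v) = S (k + 1) (F v))
    (h2 : ∀ v : V, v + v = 0 → v = 0) (hne : ∃ v : V, v ≠ 0) :
    Nat.card {v : V // F v = v} < Nat.card {v : V // S 0 v = -v} := by
  classical
  set c := Nat.card {v : V // F v = v} with hc
  set d := Nat.card {v : V // S 0 v = -v} with hd
  obtain ⟨hV, -⟩ := card_eigen (S 0) (S 1) (hS 0 (by omega))
    (fun a b h => by rw [← hS 1 (by omega) a, h, hS 1 (by omega)])
    (hanti 0 (by omega) 1 (by omega) (by omega)) h2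
  have hle : c * (c * c) ≤ d * d := by
    rw [← hV, hc, ← Nat.card_prod, ← Nat.card_prod]
    refine Nat.card_le_card_of_injective (fun x => x.1.1 + S 0 x.2.1.1 + S 1 x.2.2.1) ?_
    have key : ∀ a b e : V, F a = a → F b = b → F e = e → a + S 0 b + S 1 e = 0 →
        a = 0 ∧ b = 0 ∧ e = 0 := by
      intro a b e ha hb he h0
      have h1 : a + S 1 b + S 2 e = 0 := by
        have := congrArg F h0
        rwa [map_add, map_add, map_zero, hF 0 (by omega), hF 1 (by omega), ha, hb, he] at this
      have h3 : a + S 2 b + S 3 e = 0 := by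
        have := congrArg F h1
        rwa [map_add, map_add, map_zero, hF 1 (by omega), hF 2 (by omega), ha, hb, he] at this
      have E1 : (S 0 b - S 1 b) + (S 1 e - S 2 e) = 0 := by
        calc (S 0 b - S 1 b) + (S 1 e - S 2 e)
            = (a + S 0 b + S 1 e) - (a + S 1 b + S 2 e) := by abel
          _ = 0 := by rw [h0, h1, sub_self]
      have E2 : (S 1 b - S 2 b) + (S 2 e - S 3 e) = 0 := by
        calc (S 1 b - S 2 b) + (S 2 e - S 3 e)
            = (a + S 1 b + S 2 e) - (a + S 2 b + S 3 e) := by abel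
          _ = 0 := by rw [h1, h3, sub_self]
      have e0 := hS 0 (by omega)
      have e1 := hS 1 (by omega)
      have e2 := hS 2 (by omega)
      have e3 := hS 3 (by omega)
      have a10 : ∀ v, S 1 (S 0 v) = -S 0 (S 1 v) := hanti 1 (by omega) 0 (by omega) (by omega)
      have a21 : ∀ v, S 2 (S 1 v) = -S 1 (S 2 v) := hanti 2 (by omega) 1 (by omega) (by omega)
      have a20 : ∀ v, S 2 (S 0 v) = -S 0 (S 2 v) := hanti 2 (by omega) 0 (by omega) (by omega)
      have a32 : ∀ v, S 3 (S 2 v) = -S 2 (S 3 v) := hanti 3 (by omega) 2 (by omega) (by omega)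
      have a30 : ∀ v, S 3 (S 0 v) = -S 0 (S 3 v) := hanti 3 (by omega) 0 (by omega) (by omega)
      have a31 : ∀ v, S 3 (S 1 v) = -S 1 (S 3 v) := hanti 3 (by omega) 1 (by omega) (by omega)
      have P1 : b + b + (S 0 (S 1 e) - S 0 (S 2 e) - e + S 1 (S 2 e)) = 0 := by
        have h := congrArg (fun v => S 0 v - S 1 v) E1
        simp only [map_add, map_sub, map_zero, sub_zero, e0, e1, a10] at h
        rw [← h]; abel
      have P2 : b + b + (S 1 (S 2 e) - S 1 (S 3 e) - e + S 2 (S 3 e)) = 0 := by
        have h := congrArg (fun v => S 1 v - S 2 v) E2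
        simp only [map_add, map_sub, map_zero, sub_zero, e1, e2, a21] at h
        rw [← h]; abel
      have P3 : S 0 (S 1 e) - S 0 (S 2 e) + S 1 (S 3 e) - S 2 (S 3 e) = 0 := by
        calc S 0 (S 1 e) - S 0 (S 2 e) + S 1 (S 3 e) - S 2 (S 3 e)
            = (b + b + (S 0 (S 1 e) - S 0 (S 2 e) - e + S 1 (S 2 e)))
              - (b + b + (S 1 (S 2 e) - S 1 (S 3 e) - e + S 2 (S 3 e))) := by abel
          _ = 0 := by rw [P1, P2, sub_self]
      have a01 : ∀ v, S 0 (S 1 v) = -S 1 (S 0 v) := hanti 0 (by omega) 1 (by omega) (by omega)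
      have a02 : ∀ v, S 0 (S 2 v) = -S 2 (S 0 v) := hanti 0 (by omega) 2 (by omega) (by omega)
      set w := S 3 e - S 0 e with hw
      have P4 : S 1 w - S 2 w = 0 := by
        rw [← P3, hw, map_sub, map_sub, a01, a02]; abel
      have hw0 : w = 0 := by
        apply h2
        have h := congrArg (fun v => S 1 v - S 2 v) P4
        simp only [map_sub, map_zero, sub_zero, e1, e2, a21] at h
        rw [← h]; abel
      have he0 : e = 0 := by
        apply h2
        have h := congrArg (fun v => S 3 v - S 0 v) hw0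
        simp only [hw, map_sub, map_zero, sub_zero, e0, e3, a30] at h
        rw [← h]; abel
      subst he0
      have hb0 : b = 0 := by
        apply h2
        simpa using P1
      subst hb0
      exact ⟨by simpa using h0, rfl, rfl⟩
    rintro ⟨⟨a, ha⟩, ⟨b, hb⟩, ⟨e, he⟩⟩ ⟨⟨a', ha'⟩, ⟨b', hb'⟩, ⟨e', he'⟩⟩ h
    simp only at h
    obtain ⟨q1, q2, q3⟩ := key (a - a') (b - b') (e - e') (by rw [map_sub, ha, ha'])
      (by rw [map_sub, hb, hb']) (by rw [map_sub, he, he']) (by
        rw [map_sub, map_sub]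
        calc a - a' + (S 0 b - S 0 b') + (S 1 e - S 1 e')
            = (a + S 0 b + S 1 e) - (a' + S 0 b' + S 1 e') := by abel
          _ = 0 := by rw [h, sub_self])
    obtain rfl := sub_eq_zero.1 q1
    obtain rfl := sub_eq_zero.1 q2
    obtain rfl := sub_eq_zero.1 q3
    rfl
  have hd1 : 1 < d := by
    by_contra h
    have hV1 : Nat.card V ≤ 1 := by
      rw [hV]
      calc d * d ≤ 1 * 1 := Nat.mul_le_mul (by omega) (by omega)
        _ = 1 := rfl
    obtain ⟨v, hv⟩ := hne
    have : Nontrivial V := ⟨v, 0, hv⟩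
    letI := Fintype.ofFinite V
    have : 1 < Nat.card V := Nat.card_eq_fintype_card (α := V) ▸ Fintype.one_lt_card
    omega
  by_contra h
  push Not at h
  have h3 : d * (d * d) ≤ d * d :=
    le_trans (Nat.mul_le_mul h (Nat.mul_le_mul h h)) hle
  have h4 : 2 * (d * d) ≤ d * (d * d) := Nat.mul_le_mul_right _ hd1
  have h5 : 0 < d * d := Nat.mul_pos (by omega) (by omega)
  omega

/-- A quaternion pair moved by `F`: the fixed points in an invariant subgroup have order at most
the square root. -/
theorem card_fixed_sq (W : AddSubgroup V) (F I J : V →+ V)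
    (hI : ∀ v, I (I v) = -v) (hJ : ∀ v, J (J v) = -v) (hIJ : ∀ v, I (J v) = -J (I v))
    (hFI : ∀ v, F (I v) = J (F v)) (hIW : ∀ v ∈ W, I v ∈ W) (h2 : ∀ v : V, v + v = 0 → v = 0) :
    Nat.card {v : V // v ∈ W ∧ F v = v} * Nat.card {v : V // v ∈ W ∧ F v = v} ≤ Nat.card W := by
  rw [← Nat.card_prod]
  refine Nat.card_le_card_of_injective
    (fun x => (⟨x.1.1 + I x.2.1, add_mem x.1.2.1 (hIW _ x.2.2.1)⟩ : W)) ?_
  rintro ⟨⟨a, haW, ha⟩, ⟨b, hbW, hb⟩⟩ ⟨⟨a', ha'W, ha'⟩, ⟨b', hb'W, hb'⟩⟩ h
  simp only [Subtype.mk.injEq] at h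
  set v := b - b' with hv
  have hIv : I v = a' - a := by
    rw [hv, map_sub]
    calc I b - I b' = (a + I b) - (a + I b') := by abel
      _ = (a' + I b') - (a + I b') := by rw [h]
      _ = a' - a := by abel
  have hFv : F v = v := by rw [hv, map_sub, hb, hb']
  have hJv : J v = I v := by
    rw [← hFv, ← hFI, hFv, hIv, map_sub, ha, ha']
  have hv0 : v = 0 := by
    apply h2
    have h1 : I (J v) = -v := by rw [hJv, hI]
    rw [hIJ, ← hJv, hJ, neg_neg] at h1
    exact eq_neg_iff_add_eq_zero.1 h1
  have hbb : b = b' := sub_eq_zero.1 hv0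
  subst hbb
  have haa : a = a' := add_right_cancel h
  subst haa
  rfl

end Cfsg.Agent.KlingerMason
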