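/-
Groups of characteristic 2 and p type: the module inverted by an involution inside `O_p` of the
centraliser of an elementary abelian p-group.
-/
import Cfsg.Agent.Lib.CharTwoP.ClassTwo
import Cfsg.Agent.Lib.Functors.Critical
import Cfsg.Agent.Lib.Transfer.PGroup
import Cfsg.Agent.Lib.Signalizer.OddPAction

set_option autoImplicit false
set_option linter.unusedSectionVars false
set_option linter.unusedSimpArgs false
set_option linter.style.haveILetI false

namespace Cfsg.Agent.KlingerMason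

open scoped commutatorElement

variable {G : Type*} [Group G] {p : ℕ}

/-- The local data: `A`, an involution `t`, a second involution `s` and `σ` moving it to `s t`. -/
structure Loc (p : ℕ) (A : Subgroup G) (t s σ : G) : Prop where
  hp : p ≠ 2
  hP : Cfsg.IsOfLocalCharacteristic p G
  hA : IsEl p A
  hA1 : A ≠ ⊥
  ht : orderOf t = 2
  hs : orderOf s = 2
  hts : Commute t s
  hne : t ≠ s
  hσt : σ * t * σ⁻¹ = t
  hσs : σ * s * σ⁻¹ = s * t
  hta : t ∈ Subgroup.centralizer (A : Set G)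
  hsa : s ∈ Subgroup.centralizer (A : Set G)
  hσa : σ ∈ Subgroup.centralizer (A : Set G)
  hfix : ∀ n ∈ Rof p A, Commute t n → Commute s n ∧ Commute σ n
  hΩ : ∀ n ∈ Rof p A, n ^ p = 1 → Commute t n → n ∈ A

/-- The subgroup generated by the inverted elements of order `p`. -/
def Mof (p : ℕ) (A : Subgroup G) (t : G) : Subgroup G :=
  Subgroup.closure {g | g ∈ Rof p A ∧ g ^ p = 1 ∧ t * g * t⁻¹ = g⁻¹}

variable [Finite G] [Fact p.Prime]

theorem mof_le_rof (A : Subgroup G) (t : G) : Mof p A t ≤ Rof p A := by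
  rw [Mof, Subgroup.closure_le]; exact fun g hg => hg.1

theorem isPGroup_mof (A : Subgroup G) (t : G) : IsPGroup p (Mof p A t) :=
  (isPGroup_rof A).to_le (mof_le_rof A t)

theorem conj_mem_mof {A : Subgroup G} {t g y : G} (hg : g ∈ Subgroup.normalizer (A : Set G))
    (hgt : Commute g t) (hy : y ∈ Mof p A t) : g * y * g⁻¹ ∈ Mof p A t := by
  induction hy using Subgroup.closure_induction with
  | mem x hx =>
    refine Subgroup.subset_closure ⟨conj_mem_rof hg hx.1, by rw [conj_pow, hx.2.1, mul_one, mul_inv_cancel], ?_⟩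
    calc t * (g * x * g⁻¹) * t⁻¹ = (t * g) * x * (t * g)⁻¹ := by group
      _ = g * (t * x * t⁻¹) * g⁻¹ := by rw [← hgt.eq]; group
      _ = (g * x * g⁻¹)⁻¹ := by rw [hx.2.2, conj_inv]
  | one => simp
  | mul u v _ _ ihu ihv =>
    rw [show g * (u * v) * g⁻¹ = g * u * g⁻¹ * (g * v * g⁻¹) by group]
    exact mul_mem ihu ihv
  | inv u _ ih => rw [← conj_inv]; exact inv_mem ih

theorem mem_normalizer_mof {A : Subgroup G} {t g : G} (hg : g ∈ Subgroup.normalizer (A : Set G))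
    (hgt : Commute g t) : g ∈ Subgroup.normalizer (Mof p A t : Set G) := by
  rw [Subgroup.mem_normalizer_iff]
  exact fun y => ⟨conj_mem_mof hg hgt, fun hy => by
    simpa [mul_assoc] using conj_mem_mof (p := p) (inv_mem hg) hgt.inv_left hy⟩

variable {A : Subgroup G} {t s σ : G}

theorem Loc.tt (hl : Loc p A t s σ) : t * t = 1 := by rw [← sq, ← hl.ht, pow_orderOf_eq_one]

theorem Loc.norm_t (hl : Loc p A t s σ) : t ∈ Subgroup.normalizer (Mof p A t : Set G) :=
  mem_normalizer_mof (Subgroup.centralizer_le_normalizer _ hl.hta) (Commute.refl t)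

theorem Loc.class_two (hl : Loc p A t s σ) :
    ∀ a ∈ Mof p A t, ∀ b ∈ Mof p A t, ∀ c ∈ Mof p A t, Commute ⁅a, b⁆ c :=
  KlingerMason.class_two hl.hp (isPGroup_mof A t) (I := {g | g ∈ Rof p A ∧ g ^ p = 1 ∧ t * g * t⁻¹ = g⁻¹})
    rfl hl.ht hl.hs hl.hts hl.hne hl.hσt hl.hσs hl.norm_t
    (mem_normalizer_mof (Subgroup.centralizer_le_normalizer _ hl.hsa) hl.hts.symm)
    (mem_normalizer_mof (Subgroup.centralizer_le_normalizer _ hl.hσa)
      (mul_inv_eq_iff_eq_mul.1 hl.hσt))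
    (fun x hx => hx.2.2) (fun y hy hc => hl.hfix y (mof_le_rof A t hy) hc)

theorem Loc.comm_mul_left (hl : Loc p A t s σ) {a b c : G} (ha : a ∈ Mof p A t) (hb : b ∈ Mof p A t)
    (hc : c ∈ Mof p A t) : ⁅a * b, c⁆ = ⁅a, c⁆ * ⁅b, c⁆ := by
  calc ⁅a * b, c⁆ = a * ⁅b, c⁆ * a⁻¹ * ⁅a, c⁆ := by simp only [commutatorElement_def]; group
    _ = ⁅b, c⁆ * ⁅a, c⁆ := by rw [← (hl.class_two b hb c hc a ha).eq, mul_inv_cancel_right]
    _ = ⁅a, c⁆ * ⁅b, c⁆ := hl.class_two b hb c hc _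
      (Subgroup.commutator_le_self _ (Subgroup.commutator_mem_commutator ha hc))

theorem Loc.comm_inv_left (hl : Loc p A t s σ) {a c : G} (ha : a ∈ Mof p A t) (hc : c ∈ Mof p A t) :
    ⁅a⁻¹, c⁆ = ⁅a, c⁆⁻¹ := by
  rw [eq_inv_iff_mul_eq_one, ← hl.comm_mul_left (inv_mem ha) ha hc, inv_mul_cancel]
  simp [commutatorElement_def]

theorem Loc.comm_mem (hl : Loc p A t s σ) {a b : G} (ha : a ∈ Mof p A t) (hb : b ∈ Mof p A t) :
    ⁅a, b⁆ ∈ A := by
  have hgen : ∀ x ∈ {g | g ∈ Rof p A ∧ g ^ p = 1 ∧ t * g * t⁻¹ = g⁻¹},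
      ∀ y ∈ {g | g ∈ Rof p A ∧ g ^ p = 1 ∧ t * g * t⁻¹ = g⁻¹}, ⁅x, y⁆ ∈ A := by
    intro x hx y hy
    have hxM : x ∈ Mof p A t := Subgroup.subset_closure hx
    have hyM : y ∈ Mof p A t := Subgroup.subset_closure hy
    refine hl.hΩ _ (mof_le_rof A t (Subgroup.commutator_le_self _
      (Subgroup.commutator_mem_commutator hxM hyM))) ?_ ?_
    · rw [← PGroupBasics.commutator_pow (hl.class_two x hxM y hyM y hyM), hy.2.1]
      simp [commutatorElement_def]
    · refine mul_inv_eq_iff_eq_mul.1 ?_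
      calc t * ⁅x, y⁆ * t⁻¹ = ⁅t * x * t⁻¹, t * y * t⁻¹⁆ := by
            simp only [commutatorElement_def]; group
        _ = ⁅x, y⁆ := by
          rw [hx.2.2, hy.2.2, hl.comm_inv_left hxM (inv_mem hyM), commutatorElement_inv,
            hl.comm_inv_left hyM hxM, commutatorElement_inv]
  have hstep : ∀ x ∈ {g | g ∈ Rof p A ∧ g ^ p = 1 ∧ t * g * t⁻¹ = g⁻¹},
      ∀ b ∈ Mof p A t, ⁅x, b⁆ ∈ A := by
    intro x hx b hb
    have hxM : x ∈ Mof p A t := Subgroup.subset_closure hx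
    rw [← commutatorElement_inv]
    refine inv_mem ?_
    induction hb using Subgroup.closure_induction with
    | mem y hy => rw [← commutatorElement_inv]; exact inv_mem (hgen x hx y hy)
    | one => simp [commutatorElement_def]
    | mul u v hu hv ihu ihv => rw [hl.comm_mul_left hu hv hxM]; exact mul_mem ihu ihv
    | inv u hu ih => rw [hl.comm_inv_left hu hxM]; exact inv_mem ih
  induction ha using Subgroup.closure_induction with
  | mem x hx => exact hstep x hx b hb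
  | one => simp [commutatorElement_def]
  | mul u v hu hv ihu ihv => rw [hl.comm_mul_left hu hv hb]; exact mul_mem ihu ihv
  | inv u hu ih => rw [hl.comm_inv_left hu hb]; exact inv_mem ih

theorem Loc.pow_eq_one (hl : Loc p A t s σ) {a : G} (ha : a ∈ Mof p A t) : a ^ p = 1 := by
  obtain ⟨d, hd⟩ := (Fact.out : p.Prime).dvd_choose_self two_ne_zero
    (lt_of_le_of_ne (Fact.out : p.Prime).two_le (Ne.symm hl.hp))
  induction ha using Subgroup.closure_induction with
  | mem x hx => exact hx.2.1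
  | one => exact one_pow p
  | mul x y hx hy ihx ihy =>
    have hba : y * x = x * y * ⁅y⁻¹, x⁻¹⁆ := by rw [commutatorElement_def]; group
    have hz := hl.comm_mem (inv_mem hy) (inv_mem hx)
    have hc := hl.class_two _ (inv_mem hy) _ (inv_mem hx)
    rw [LEOmega.mul_pow_class_two hba (hc x hx) (hc y hy), ihx, ihy, hd, pow_mul, hl.hA.2 _ hz,
      one_pow, one_mul, one_mul]
  | inv x _ ih => rw [inv_pow, ih, inv_one]

/-- Inverted elements of order `p` of `C(A)` lie in `M`. -/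
theorem Loc.inverted_mem (hl : Loc p A t s σ) {g : G}
    (hg : g ∈ Subgroup.centralizer (A : Set G)) (hgp : g ^ p = 1) (hgi : t * g * t⁻¹ = g⁻¹) :
    g ∈ Mof p A t ∧ ∃ v ∈ Mof p A t, v ≠ 1 ∧ t * v * t⁻¹ = v⁻¹ := by
  classical
  have hp1 := (Fact.out : p.Prime)
  set N := Subgroup.normalizer (A : Set G) with hN
  set R := Rof p A with hR
  have hRp : IsPGroup p R := isPGroup_rof A
  have hRn : ∀ x ∈ N, x ∈ Subgroup.normalizer (R : Set G) := fun x hx => normalizer_le_rof A hx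
  obtain ⟨H, hH⟩ := Critical.exists_critical (p := p) hRp
  haveI := hH.char
  have hHc : ∀ a b : ↥H, ⁅a, b⁆ ∈ Subgroup.center ↥H := fun a b => Subgroup.mem_center_iff.2
    fun c => Subtype.ext (Subgroup.mem_centralizer_iff.1
      (hH.comm (Subgroup.commutator_mem_commutator (Subgroup.mem_top (a : ↥R)) b.2)).2 c c.2)
  let K : Subgroup G :=
    { carrier := {x | ∃ hx : x ∈ R, (⟨x, hx⟩ : ↥R) ∈ H ∧ x ^ p = 1}
      one_mem' := ⟨one_mem _, one_mem H, one_pow p⟩
      mul_mem' := by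
        rintro x y ⟨hx, hxH, hxp⟩ ⟨hy, hyH, hyp⟩
        refine ⟨mul_mem hx hy, mul_mem hxH hyH, ?_⟩
        have h := PGroupBasics.mul_pow_eq_one (R := ↥H) hl.hp hHc
          (x := ⟨⟨x, hx⟩, hxH⟩) (y := ⟨⟨y, hy⟩, hyH⟩) (Subtype.ext (Subtype.ext hxp))
          (Subtype.ext (Subtype.ext hyp))
        exact congrArg (fun u : ↥H => ((u : ↥R) : G)) h
      inv_mem' := by
        rintro x ⟨hx, hxH, hxp⟩
        exact ⟨inv_mem hx, inv_mem hxH, by rw [inv_pow, hxp, inv_one]⟩ }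
  have hKR : K ≤ R := fun x hx => hx.1
  have hKconj : ∀ x ∈ N, ∀ k ∈ K, x * k * x⁻¹ ∈ K := by
    rintro x hx k ⟨hk, hkH, hkp⟩
    refine ⟨conj_mem_rof hx hk, ?_, by rw [conj_pow, hkp, mul_one, mul_inv_cancel]⟩
    set φ := R.normalizerMonoidHom ⟨x, hRn x hx⟩
    have : φ ⟨k, hk⟩ ∈ H := by
      have h1 := Subgroup.characteristic_iff_le_comap.1 hH.char φ
      exact h1 hkH
    exact this
  -- coprime elements centralising `K` are trivial
  have hfaith : ∀ x ∈ Subgroup.centralizer (A : Set G), ∀ n : ℕ, x ^ n = 1 → p.Coprime n →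
      (∀ k ∈ K, Commute x k) → x = 1 := by
    intro x hx n hxn hn hk
    have hxN : x ∈ N := Subgroup.centralizer_le_normalizer _ hx
    set φ := R.normalizerMonoidHom ⟨x, hRn x hxN⟩ with hφ
    set H' := H.map R.subtype with hH'
    have hcop : (orderOf x).Coprime p :=
      (hn.coprime_dvd_right (orderOf_dvd_of_pow_eq_one hxn)).symm
    have hH'n : x ∈ Subgroup.normalizer (H' : Set G) := by
      have key : ∀ y ∈ N, ∀ h ∈ H', y * h * y⁻¹ ∈ H' := by
        rintro y hy _ ⟨h, hh, rfl⟩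
        exact ⟨R.normalizerMonoidHom ⟨y, hRn y hy⟩ h,
          Subgroup.characteristic_iff_le_comap.1 hH.char _ hh, rfl⟩
      rw [Subgroup.mem_normalizer_iff]
      exact fun h => ⟨key x hxN h, fun hh => by
        simpa [mul_assoc] using key x⁻¹ (inv_mem hxN) _ hh⟩
    have hH'c := LEOmega.commute_of_omega hl.hp hcop _ H' le_rfl ((hRp.to_subgroup H).map _) hH'n
      (by
        rintro _ ⟨a, ha, rfl⟩ hap
        exact (hk _ ⟨a.2, ha, hap⟩).eq)
    have hφ1 : φ = 1 := by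
      refine hH.mulAut_eq_one' hRp ?_ fun a ha => Subtype.ext ?_
      · refine Nat.Coprime.coprime_dvd_left ?_ hcop
        rw [← Subgroup.orderOf_mk (x) (hRn x hxN)]
        exact orderOf_map_dvd _ _
      · show x * (a : G) * x⁻¹ = a
        rw [hH'c (a : G) ⟨a, ha, rfl⟩]
        group
    refine faithful hl.hP hl.hA hl.hA1 hx hxn hn fun y hy => ?_
    have := congrArg (fun f : MulAut ↥R => ((f ⟨y, hy⟩ : ↥R) : G)) hφ1
    exact mul_inv_eq_iff_eq_mul.1 this
  have hti : t⁻¹ = t := inv_eq_of_mul_eq_one_right hl.tt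
  have htN : t ∈ N := Subgroup.centralizer_le_normalizer _ hl.hta
  -- `t` inverts `K` modulo `A`
  have hinvK : ∀ k ∈ K, t * k * t⁻¹ * k ∈ A := by
    intro k hk
    obtain ⟨u, -, huK, hui, huf⟩ := split hl.tt K hk (hKconj t htN k hk)
      (odd_of_pgroup hl.hp (hRp.to_le hKR))
    have hmem : k * u ∈ A := by
      obtain ⟨h1, h2, h3⟩ := mul_mem hk huK
      exact hl.hΩ _ h1 h3 (mul_inv_eq_iff_eq_mul.1 huf)
    have huR : u ∈ R := hKR huK
    have e : t * k * t⁻¹ * k = (k * u) * (u * (k * u) * u⁻¹) := by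
      calc t * k * t⁻¹ * k = t * (k * u) * t⁻¹ * (t * u * t⁻¹)⁻¹ * k := by group
        _ = k * u * u * k := by rw [huf, hui, inv_inv]
        _ = _ := by group
    rw [e, ← (commute_of_mem_rof huR hmem).eq, mul_inv_cancel_right]
    exact mul_mem hmem hmem
  -- the stabiliser
  let Sg : Subgroup G :=
    { carrier := {y | y ∈ Subgroup.centralizer (A : Set G) ∧ ∀ k ∈ K, ⁅y, k⁆ ∈ A}
      one_mem' := ⟨one_mem _, fun k _ => by simp [commutatorElement_def]⟩
      mul_mem' := by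
        rintro y z ⟨hy, hy'⟩ ⟨hz, hz'⟩
        refine ⟨mul_mem hy hz, fun k hk => ?_⟩
        have e : ⁅y * z, k⁆ = y * ⁅z, k⁆ * y⁻¹ * ⁅y, k⁆ := by
          simp only [commutatorElement_def]; group
        rw [e, ← Subgroup.mem_centralizer_iff.1 hy _ (hz' k hk), mul_inv_cancel_right]
        exact mul_mem (hz' k hk) (hy' k hk)
      inv_mem' := by
        rintro y ⟨hy, hy'⟩
        refine ⟨inv_mem hy, fun k hk => ?_⟩
        have e : ⁅y⁻¹, k⁆ = y⁻¹ * ⁅y, k⁆⁻¹ * y := by simp only [commutatorElement_def]; group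
        rw [e, mul_assoc, Subgroup.mem_centralizer_iff.1 hy _ (inv_mem (hy' k hk)),
          inv_mul_cancel_left]
        exact inv_mem (hy' k hk) }
  have hSgN : N ≤ Subgroup.normalizer (Sg : Set G) := by
    have key : ∀ x ∈ N, ∀ y ∈ Sg, x * y * x⁻¹ ∈ Sg := by
      rintro x hx y ⟨hy, hy'⟩
      refine ⟨?_, fun k hk => ?_⟩
      · rw [Subgroup.mem_centralizer_iff]
        intro a ha
        have h3 := Subgroup.mem_centralizer_iff.1 hy (x⁻¹ * a * x)
          ((Subgroup.mem_normalizer_iff''.1 hx a).1 ha)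
        calc a * (x * y * x⁻¹) = x * ((x⁻¹ * a * x) * y) * x⁻¹ := by group
          _ = x * y * x⁻¹ * a := by rw [h3]; group
      · have hk' : x⁻¹ * k * x ∈ K := by simpa using hKconj x⁻¹ (inv_mem hx) k hk
        have e : ⁅x * y * x⁻¹, k⁆ = x * ⁅y, x⁻¹ * k * x⁆ * x⁻¹ := by
          simp only [commutatorElement_def]; group
        rw [e]
        exact (Subgroup.mem_normalizer_iff.1 hx _).1 (hy' _ hk')
    intro x hx
    rw [Subgroup.mem_normalizer_iff]
    exact fun y => ⟨key x hx y, fun hy => by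
      simpa [mul_assoc] using key x⁻¹ (inv_mem hx) _ hy⟩
  have hSgp : IsPGroup p Sg := by
    intro y
    obtain ⟨k, n, hn, hkn⟩ := Nat.exists_eq_pow_mul_and_not_dvd (orderOf_pos (y : G)).ne' p
      hp1.ne_one
    refine ⟨k, Subtype.ext ?_⟩
    have hz : ((y : G) ^ p ^ k) ^ n = 1 := by rw [← pow_mul, ← hkn, pow_orderOf_eq_one]
    have hncop : p.Coprime n := (Nat.Prime.coprime_iff_not_dvd hp1).2 hn
    have hzS : (y : G) ^ p ^ k ∈ Sg := pow_mem y.2 _
    show (y : G) ^ p ^ k = 1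
    set z := (y : G) ^ p ^ k with hzdef
    refine hfaith z hzS.1 n hz hncop fun c hc => ?_
    set a := ⁅z, c⁆ with ha
    have haA := hzS.2 c hc
    have hpow : ∀ i : ℕ, z ^ i * c * (z ^ i)⁻¹ = a ^ i * c := by
      intro i
      induction i with
      | zero => simp
      | succ i ih =>
        have hza : Commute z (a ^ i) :=
          ((Subgroup.mem_centralizer_iff.1 hzS.1 _ (pow_mem haA i)) : a ^ i * z = z * a ^ i).symm
        calc z ^ (i + 1) * c * (z ^ (i + 1))⁻¹ = z * (z ^ i * c * (z ^ i)⁻¹) * z⁻¹ := by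
              rw [pow_succ']; group
          _ = (z * a ^ i) * c * z⁻¹ := by rw [ih]; group
          _ = a ^ i * (a * c) := by rw [hza.eq, ha, commutatorElement_def]; group
          _ = a ^ (i + 1) * c := by rw [pow_succ]; group
    have han : a ^ n = 1 := by
      have := hpow n
      rw [hz, inv_one, one_mul, mul_one, eq_comm, mul_eq_right] at this
      exact this
    have ha1 : a = 1 := orderOf_eq_one_iff.1 (Nat.Coprime.eq_one_of_dvd
      (hncop.coprime_dvd_left (orderOf_dvd_of_pow_eq_one (hl.hA.2 a haA)))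
      (orderOf_dvd_of_pow_eq_one han))
    exact commutatorElement_eq_one_iff_mul_comm.1 ha1
  have hSgR : Sg ≤ R := le_inf (AxB.le_pCoreOf
    (fun y hy => Subgroup.centralizer_le_normalizer _ hy.1) hSgN hSgp) (fun y hy => hy.1)
  refine ⟨Subgroup.subset_closure ⟨hSgR ?_, hgp, hgi⟩, ?_⟩
  · -- `[t, g] = g⁻²` lies in the stabiliser
    have hc : t * g * t⁻¹ * g⁻¹ ∈ Sg := by
      refine ⟨mul_mem (mul_mem (mul_mem hl.hta hg) (inv_mem hl.hta)) (inv_mem hg), fun k hk => ?_⟩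
      have hgN : g ∈ N := Subgroup.centralizer_le_normalizer _ hg
      set k1 := g⁻¹ * k * g with hk1
      have hk1K : k1 ∈ K := by simpa [hk1] using hKconj g⁻¹ (inv_mem hgN) k hk
      have h1 := hinvK k1 hk1K
      have h0 := hinvK k hk
      set a1 := t * k1 * t⁻¹ * k1 with ha1
      set a0 := t * k * t⁻¹ * k with ha0
      have cg : Commute g a1 := (Subgroup.mem_centralizer_iff.1 hg a1 h1 : a1 * g = g * a1).symm
      have ct : Commute t a1 := (Subgroup.mem_centralizer_iff.1 hl.hta a1 h1 : a1 * t = t * a1).symm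
      have ck : Commute a0 k := commute_of_mem_rof (hKR hk) h0
      set c := t * g * t⁻¹ * g⁻¹ with hcdef
      have e1 : c * k * c⁻¹ = a1 * a0⁻¹ * k := by
        calc c * k * c⁻¹ = t * g * (t * k1 * t⁻¹) * g⁻¹ * t⁻¹ := by
              rw [hcdef, hk1, hti]; group; simp only [zpow_neg_one, hti]
          _ = t * g * (a1 * k1⁻¹) * g⁻¹ * t⁻¹ := by rw [ha1]; group
          _ = t * (g * a1 * g⁻¹) * (g * k1⁻¹ * g⁻¹) * t⁻¹ := by group
          _ = t * a1 * (g * k1⁻¹ * g⁻¹) * t⁻¹ := by rw [cg.eq, mul_inv_cancel_right]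
          _ = (t * a1 * t⁻¹) * (t * k * t⁻¹)⁻¹ := by rw [hk1]; group
          _ = a1 * (k * a0⁻¹) := by rw [ct.eq, mul_inv_cancel_right, ha0]; group
          _ = a1 * a0⁻¹ * k := by rw [mul_assoc a1, ck.inv_left.eq]
      have e2 : ⁅c, k⁆ = a1 * a0⁻¹ := by rw [commutatorElement_def, e1, mul_inv_cancel_right]
      rw [e2]
      exact mul_mem h1 (inv_mem h0)
    rw [hgi, ← mul_inv_rev] at hc
    refine mem_of_sq_mem ?_ (inv_inv (g * g) ▸ inv_mem hc)
    by_cases hg1 : g = 1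
    · rw [hg1, orderOf_one]; exact odd_one
    · rw [orderOf_eq_prime hgp hg1]; exact hp1.odd_of_ne_two hl.hp
  · obtain ⟨k, hk, hkne⟩ : ∃ k ∈ K, ¬ Commute t k := by
      by_contra h
      push Not at h
      have := hfaith t hl.hta 2 (by rw [sq]; exact hl.tt) (coprime_two hl.hp).symm h
      have ht := hl.ht
      rw [this, orderOf_one] at ht
      omega
    set c := k⁻¹ * (t * k * t⁻¹) with hc
    obtain ⟨hcR, hcH, hcp⟩ := mul_mem (inv_mem hk) (hKconj t htN k hk)
    have hci : t * c * t⁻¹ = c⁻¹ := by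
      calc t * c * t⁻¹ = t * k⁻¹ * t * k * (t * t)⁻¹ := by rw [hc]; group
        _ = t * k⁻¹ * t⁻¹ * k := by rw [hl.tt, inv_one, mul_one, hti]
        _ = c⁻¹ := by rw [hc]; group
    refine ⟨c, Subgroup.subset_closure ⟨hcR, hcp, hci⟩, fun h => hkne ?_, hci⟩
    exact mul_inv_eq_iff_eq_mul.1 (inv_mul_eq_one.1 h).symm

/-! ### The module -/

theorem Loc.baer_hc (hl : Loc p A t s σ) (x y z : ↥(Mof p A t)) : Commute ⁅x, y⁆ z :=
  Subtype.ext (hl.class_two x x.2 y y.2 z z.2).eq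

theorem Loc.baer_hh (hl : Loc p A t s σ) (x y : ↥(Mof p A t)) :
    ⁅x, y⁆ ^ (2 * ((p + 1) / 2)) = ⁅x, y⁆ := by
  obtain ⟨k, hk⟩ := (Fact.out : p.Prime).odd_of_ne_two hl.hp
  rw [show 2 * ((p + 1) / 2) = p + 1 by omega, pow_succ,
    show ⁅x, y⁆ ^ p = 1 from Subtype.ext (hl.pow_eq_one (⁅x, y⁆ : ↥(Mof p A t)).2), one_mul]

/-- `M` with the Baer sum. -/
structure BaerM (hl : Loc p A t s σ) where
  /-- The underlying element. -/
  toM : ↥(Mof p A t)

/-- Forgetting the structure. -/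
def baerEquiv (hl : Loc p A t s σ) : BaerM hl ≃ ↥(Mof p A t) :=
  ⟨BaerM.toM, BaerM.mk, fun _ => rfl, fun _ => rfl⟩

@[implicit_reducible]
noncomputable instance (hl : Loc p A t s σ) : AddCommGroup (BaerM hl) :=
  letI := Signalizer.baerGroup ((p + 1) / 2) hl.baer_hc hl.baer_hh
  (baerEquiv hl).addCommGroup

instance (hl : Loc p A t s σ) : Finite (BaerM hl) := Finite.of_equiv _ (baerEquiv hl).symm

/-- The group element. -/
def BaerM.val {hl : Loc p A t s σ} (x : BaerM hl) : G := (x.toM : G)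

theorem BaerM.val_injective {hl : Loc p A t s σ} : Function.Injective (BaerM.val (hl := hl)) := by
  rintro ⟨x⟩ ⟨y⟩ h
  exact congrArg BaerM.mk (Subtype.ext h)

theorem BaerM.val_zero {hl : Loc p A t s σ} : BaerM.val (0 : BaerM hl) = 1 := rfl

theorem BaerM.val_neg {hl : Loc p A t s σ} (x : BaerM hl) : BaerM.val (-x) = (BaerM.val x)⁻¹ := rfl

theorem BaerM.val_add {hl : Loc p A t s σ} (x y : BaerM hl) :
    BaerM.val (x + y) =
      BaerM.val x * BaerM.val y * ⁅BaerM.val y, BaerM.val x⁆ ^ ((p + 1) / 2) := by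
  show ((Signalizer.baerAdd ((p + 1) / 2) x.toM y.toM : ↥(Mof p A t)) : G) = _
  rfl

/-- Conjugation on `BaerM`. -/
noncomputable def bop (hl : Loc p A t s σ) (g : G) (hga : g ∈ Subgroup.centralizer (A : Set G))
    (hgt : Commute g t) : BaerM hl →+ BaerM hl :=
  AddMonoidHom.mk'
    (fun x => ⟨⟨g * x.val * g⁻¹,
      conj_mem_mof (Subgroup.centralizer_le_normalizer _ hga) hgt x.toM.2⟩⟩)
    (fun x y => by
      apply BaerM.val_injective
      refine Eq.trans ?_ (BaerM.val_add _ _).symm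
      show g * (x + y).val * g⁻¹ = g * x.val * g⁻¹ * (g * y.val * g⁻¹) *
        ⁅g * y.val * g⁻¹, g * x.val * g⁻¹⁆ ^ _
      rw [BaerM.val_add, show ⁅g * y.val * g⁻¹, g * x.val * g⁻¹⁆ = g * ⁅y.val, x.val⁆ * g⁻¹ by
        simp only [commutatorElement_def]; group, conj_pow]
      group)

/-- The elements of `M` inverted by `t`. -/
noncomputable def Vt (hl : Loc p A t s σ) : AddSubgroup (BaerM hl) :=
  (bop hl t hl.hta (Commute.refl t) + AddMonoidHom.id _).ker

/-- The element of the group underlying a vector. -/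
def Vt.val {hl : Loc p A t s σ} (v : ↥(Vt hl)) : G := BaerM.val v.1

theorem Vt.val_injective {hl : Loc p A t s σ} : Function.Injective (Vt.val (hl := hl)) :=
  fun _ _ h => Subtype.ext (BaerM.val_injective h)

@[simp] theorem Vt.val_zero {hl : Loc p A t s σ} : Vt.val (0 : ↥(Vt hl)) = 1 := rfl

@[simp] theorem Vt.val_neg {hl : Loc p A t s σ} (v : ↥(Vt hl)) : Vt.val (-v) = (Vt.val v)⁻¹ := rfl

theorem mem_vt_iff (hl : Loc p A t s σ) (x : BaerM hl) :
    x ∈ Vt hl ↔ t * x.val * t⁻¹ = x.val⁻¹ := by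
  rw [Vt, AddMonoidHom.mem_ker, AddMonoidHom.add_apply, AddMonoidHom.id_apply,
    add_eq_zero_iff_eq_neg]
  exact ⟨fun h => congrArg BaerM.val h, fun h => BaerM.val_injective h⟩

/-- A vector from an inverted element of `M`. -/
def Vt.mk (hl : Loc p A t s σ) (g : G) (hg : g ∈ Mof p A t) (hgi : t * g * t⁻¹ = g⁻¹) : ↥(Vt hl) :=
  ⟨⟨⟨g, hg⟩⟩, (mem_vt_iff hl _).2 hgi⟩

@[simp] theorem Vt.val_mk (hl : Loc p A t s σ) (g : G) (hg : g ∈ Mof p A t)
    (hgi : t * g * t⁻¹ = g⁻¹) : Vt.val (Vt.mk hl g hg hgi) = g := rfl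

theorem Vt.inverted {hl : Loc p A t s σ} (v : ↥(Vt hl)) :
    t * Vt.val v * t⁻¹ = (Vt.val v)⁻¹ := (mem_vt_iff hl _).1 v.2

theorem Vt.val_mem {hl : Loc p A t s σ} (v : ↥(Vt hl)) : Vt.val v ∈ Mof p A t := v.1.toM.2

theorem vt_two_torsion (hl : Loc p A t s σ) (v : ↥(Vt hl)) (h : v + v = 0) : v = 0 := by
  have h1 : Vt.val v * Vt.val v * ⁅Vt.val v, Vt.val v⁆ ^ ((p + 1) / 2) = 1 :=
    (BaerM.val_add v.1 v.1).symm.trans (congrArg Vt.val h)
  rw [show ⁅Vt.val v, Vt.val v⁆ = 1 by simp [commutatorElement_def], one_pow, mul_one] at h1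
  apply Vt.val_injective
  rw [Vt.val_zero]
  exact Subgroup.mem_bot.1 (mem_of_sq_mem
    (odd_of_pgroup hl.hp (isPGroup_mof A t) _ (Vt.val_mem v)) (Subgroup.mem_bot.2 h1))

/-- Conjugation on the inverted part. -/
noncomputable def vop (hl : Loc p A t s σ) (g : G) (hga : g ∈ Subgroup.centralizer (A : Set G))
    (hgt : Commute g t) : ↥(Vt hl) →+ ↥(Vt hl) :=
  ((bop hl g hga hgt).comp (Vt hl).subtype).codRestrict (Vt hl) (fun v => (mem_vt_iff hl _).2 (by
    show t * (g * Vt.val v * g⁻¹) * t⁻¹ = (g * Vt.val v * g⁻¹)⁻¹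
    calc t * (g * Vt.val v * g⁻¹) * t⁻¹ = (t * g) * Vt.val v * (t * g)⁻¹ := by group
      _ = g * (t * Vt.val v * t⁻¹) * g⁻¹ := by rw [← hgt.eq]; group
      _ = _ := by rw [Vt.inverted v, conj_inv]))

@[simp] theorem vop_val (hl : Loc p A t s σ) (g : G) (hga : g ∈ Subgroup.centralizer (A : Set G))
    (hgt : Commute g t) (v : ↥(Vt hl)) : Vt.val (vop hl g hga hgt v) = g * Vt.val v * g⁻¹ := rfl

/-- Commutator relations of elements transfer to operators. -/
theorem vop_anticomm (hl : Loc p A t s σ) {a b : G} (ha : a ∈ Subgroup.centralizer (A : Set G))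
    (hat : Commute a t) (hb : b ∈ Subgroup.centralizer (A : Set G)) (hbt : Commute b t)
    (h : a * b = t * (b * a)) (v : ↥(Vt hl)) :
    vop hl a ha hat (vop hl b hb hbt v) = -vop hl b hb hbt (vop hl a ha hat v) := by
  apply Vt.val_injective
  simp only [Vt.val_neg, vop_val]
  calc a * (b * Vt.val v * b⁻¹) * a⁻¹ = (a * b) * Vt.val v * (a * b)⁻¹ := by group
    _ = t * ((b * a) * Vt.val v * (b * a)⁻¹) * t⁻¹ := by rw [h]; group
    _ = ((b * a) * Vt.val v * (b * a)⁻¹)⁻¹ := by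
      have := Vt.inverted (vop hl b hb hbt (vop hl a ha hat v))
      simp only [vop_val] at this
      convert this using 1 <;> group
    _ = _ := by group

theorem vop_sq_one (hl : Loc p A t s σ) {a : G} (ha : a ∈ Subgroup.centralizer (A : Set G))
    (hat : Commute a t) (h : a * a = 1) (v : ↥(Vt hl)) :
    vop hl a ha hat (vop hl a ha hat v) = v := by
  apply Vt.val_injective
  simp only [vop_val]
  calc a * (a * Vt.val v * a⁻¹) * a⁻¹ = (a * a) * Vt.val v * (a * a)⁻¹ := by group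
    _ = Vt.val v := by rw [h]; group

theorem vop_sq_neg (hl : Loc p A t s σ) {a : G} (ha : a ∈ Subgroup.centralizer (A : Set G))
    (hat : Commute a t) (h : a * a = t) (v : ↥(Vt hl)) :
    vop hl a ha hat (vop hl a ha hat v) = -v := by
  apply Vt.val_injective
  simp only [Vt.val_neg, vop_val]
  calc a * (a * Vt.val v * a⁻¹) * a⁻¹ = (a * a) * Vt.val v * (a * a)⁻¹ := by group
    _ = (Vt.val v)⁻¹ := by rw [h, Vt.inverted v]

end Cfsg.Agent.KlingerMason
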