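/-
Groups of characteristic 2 and p type: the 2-core of an involution centraliser acted on by an
elementary abelian p-group of maximal order.
-/
import Cfsg.Agent.Lib.CharTwoP.Basic
import Cfsg.Agent.Lib.OddOrder.Nilpotent

set_option autoImplicit false
set_option linter.unusedSectionVars false
set_option linter.unusedSimpArgs false
set_option linter.style.haveILetI false

namespace Cfsg.Agent.KlingerMason

open scoped commutatorElement

variable {G : Type*} [Group G] {p : ℕ}

theorem mem_sup_zpowers {A : Subgroup G} {x y : G} (hc : ∀ a ∈ A, Commute a x)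
    (hy : y ∈ A ⊔ Subgroup.zpowers x) : ∃ a ∈ A, ∃ i : ℤ, y = a * x ^ i := by
  set f : ↥A × ↥(Subgroup.zpowers x) →* G := MonoidHom.noncommCoprod A.subtype
    (Subgroup.zpowers x).subtype (fun a b => by
      obtain ⟨i, hi⟩ := Subgroup.mem_zpowers_iff.1 b.2
      show Commute (a : G) (b : G)
      rw [← hi]; exact (hc a a.2).zpow_right i) with hf
  have hr : f.range = A ⊔ Subgroup.zpowers x := by
    rw [hf, MonoidHom.noncommCoprod_range, Subgroup.range_subtype, Subgroup.range_subtype]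
  rw [← hr] at hy
  obtain ⟨g, rfl⟩ := hy
  obtain ⟨i, hi⟩ := Subgroup.mem_zpowers_iff.1 g.2.2
  exact ⟨g.1, g.1.2, i, by rw [hi]; rfl⟩

theorem le_normalizer_inf_centralizer {A K B : Subgroup G}
    (hAK : A ≤ Subgroup.normalizer (K : Set G)) (hAB : ∀ a ∈ A, ∀ b ∈ B, Commute a b) :
    A ≤ Subgroup.normalizer ((K ⊓ Subgroup.centralizer (B : Set G) : Subgroup G) : Set G) := by
  intro a ha
  refine Subgroup.inf_normalizer_le_normalizer_inf (Subgroup.mem_inf.2 ⟨hAK ha,
    ?_⟩)
  have haB : ∀ b ∈ B, a⁻¹ * b = b * a⁻¹ := fun b hb => (hAB a ha b hb).inv_left.eq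
  rw [Subgroup.mem_normalizer_iff]
  intro y
  constructor
  · intro hy
    rw [Subgroup.mem_centralizer_iff] at hy ⊢
    intro b hb
    calc b * (a * y * a⁻¹) = a * (b * y) * a⁻¹ := by
          rw [← mul_assoc, ← mul_assoc, ← (hAB a ha b hb).eq]; group
      _ = a * (y * b) * a⁻¹ := by rw [hy b hb]
      _ = a * y * a⁻¹ * b := by rw [← mul_assoc, mul_assoc (a * y) b, ← haB b hb, ← mul_assoc]
  · intro hy
    rw [Subgroup.mem_centralizer_iff] at hy ⊢
    intro b hb
    calc b * y = a⁻¹ * (b * (a * y * a⁻¹)) * a := by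
          rw [← mul_assoc a⁻¹, haB b hb]; group
      _ = a⁻¹ * (a * y * a⁻¹ * b) * a := by rw [hy b hb]
      _ = y * (a⁻¹ * b) * a := by group
      _ = y * b := by rw [haB b hb]; group

/-- `E` elementary abelian on a `p'`-group `K`: `C_K(B)` lies in any subgroup containing all the
centralisers of the hyperplanes over `B`. -/
theorem hyperplane_le [Finite G] [Fact p.Prime] {E K X : Subgroup G} (hE : IsEl p E)
    (hEK : E ≤ Subgroup.normalizer (K : Set G)) (hcop : p.Coprime (Nat.card K))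
    {B : Subgroup G} (hBE : B ≤ E) (hne : B ≠ E)
    (hX : ∀ H, H ≤ E → B ≤ H → Nat.card H * p = Nat.card E →
      K ⊓ Subgroup.centralizer (H : Set G) ≤ X) :
    K ⊓ Subgroup.centralizer (B : Set G) ≤ X := by
  classical
  obtain ⟨d, hd⟩ : ∃ d, d = Nat.card E - Nat.card B := ⟨_, rfl⟩
  induction d using Nat.strong_induction_on generalizing B with
  | _ d ih =>
  have hp1 := (Fact.out : p.Prime).one_lt
  obtain ⟨e1, he1, he1B⟩ : ∃ e ∈ E, e ∉ B := by
    by_contra h; push Not at h; exact hne (le_antisymm hBE h)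
  have hc1 : ∀ b ∈ B, Commute b e1 := fun b hb => hE.1 b (hBE hb) e1 he1
  have hcard1 := card_sup_zpowers (hE.2 e1 he1) he1B hc1
  by_cases htop : B ⊔ Subgroup.zpowers e1 = E
  · exact hX B hBE le_rfl (by rw [← htop, hcard1])
  obtain ⟨e2, he2, he2B⟩ : ∃ e ∈ E, e ∉ B ⊔ Subgroup.zpowers e1 := by
    by_contra h; push Not at h
    exact htop (le_antisymm (sup_le hBE (Subgroup.zpowers_le.2 he1)) h)
  have he11 : e1 ∉ (⊥ : Subgroup G) := fun h => he1B (by
    rw [Subgroup.mem_bot] at h; rw [h]; exact one_mem _)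
  have he2' : e2 ∉ Subgroup.zpowers e1 := fun h => he2B (Subgroup.mem_sup_right h)
  have hc12 : ∀ a ∈ Subgroup.zpowers e1, Commute a e2 := fun a ha =>
    hE.1 a (Subgroup.zpowers_le.2 he1 ha) e2 he2
  set A := Subgroup.zpowers e1 ⊔ Subgroup.zpowers e2 with hA
  have hAE : A ≤ E := sup_le (Subgroup.zpowers_le.2 he1) (Subgroup.zpowers_le.2 he2)
  haveI : IsMulCommutative A := ⟨⟨fun a b => Subtype.ext (hE.1 a (hAE a.2) b (hAE b.2))⟩⟩
  have hAcard : Nat.card A = p * p := by
    rw [hA, card_sup_zpowers (hE.2 e2 he2) he2' hc12, Nat.card_zpowers,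
      orderOf_eq_prime (hE.2 e1 he1) (fun h => he11 (by rw [h]; exact one_mem _))]
  have hnc : ¬ IsCyclic A := by
    intro hc
    obtain ⟨g, hg⟩ := hc.exists_ofOrder_eq_natCard
    rw [hAcard] at hg
    have : orderOf g ∣ p := orderOf_dvd_of_pow_eq_one (Subtype.ext (hE.2 g (hAE g.2)))
    rw [hg] at this
    have := Nat.le_of_dvd (by omega) this
    nlinarith
  set KB := K ⊓ Subgroup.centralizer (B : Set G) with hKB
  have hAK : A ≤ Subgroup.normalizer (KB : Set G) :=
    le_normalizer_inf_centralizer (hAE.trans hEK) fun a ha b hb => hE.1 a (hAE ha) b (hBE hb)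
  have hcopA : (Nat.card A).Coprime (Nat.card KB) := by
    rw [hAcard]
    exact (hcop.mul_left hcop).coprime_dvd_right (Subgroup.card_dvd_of_le inf_le_left)
  rw [← CoprimeAct.generated_by_centralizers hnc hAK hcopA]
  refine iSup₂_le fun a ha => ?_
  obtain ⟨haA, ha1⟩ := ha
  have haB : a ∉ B := by
    intro haB
    obtain ⟨a0, ha0, i, rfl⟩ := mem_sup_zpowers hc12 haA
    by_cases hi : (e2 : G) ^ i = 1
    · rw [hi, mul_one] at haB ha1
      obtain ⟨j, rfl⟩ := Subgroup.mem_zpowers_iff.1 ha0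
      refine he1B ?_
      have : Subgroup.zpowers (e1 ^ j) = Subgroup.zpowers e1 := by
        refine Subgroup.eq_of_le_of_card_ge (Subgroup.zpowers_le.2 (Subgroup.zpow_mem_zpowers _ _)) ?_
        rw [Nat.card_zpowers, Nat.card_zpowers,
          orderOf_eq_prime (hE.2 e1 he1) (fun h => he11 (by rw [h]; exact one_mem _)),
          orderOf_eq_prime (hE.2 _ (E.zpow_mem he1 j)) ha1]
      exact Subgroup.zpowers_le.2 haB (this ▸ Subgroup.mem_zpowers e1)
    · refine he2B ?_
      have hmem : e2 ^ i ∈ B ⊔ Subgroup.zpowers e1 := by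
        have : e2 ^ i = a0⁻¹ * (a0 * e2 ^ i) := by group
        rw [this]
        exact mul_mem (inv_mem (Subgroup.mem_sup_right ha0)) (Subgroup.mem_sup_left haB)
      have : Subgroup.zpowers (e2 ^ i) = Subgroup.zpowers e2 := by
        refine Subgroup.eq_of_le_of_card_ge (Subgroup.zpowers_le.2 (Subgroup.zpow_mem_zpowers _ _)) ?_
        rw [Nat.card_zpowers, Nat.card_zpowers,
          orderOf_eq_prime (hE.2 _ (E.zpow_mem he2 i)) hi,
          orderOf_eq_prime (hE.2 e2 he2) (fun h => he2' (by rw [h]; exact one_mem _))]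
      exact Subgroup.zpowers_le.2 hmem (this ▸ Subgroup.mem_zpowers e2)
  have haE := hAE haA
  have hca : ∀ b ∈ B, Commute b a := fun b hb => hE.1 b (hBE hb) a haE
  have hcarda := card_sup_zpowers (hE.2 a haE) haB hca
  have hBpos : 0 < Nat.card B := Nat.card_pos
  have hlt : Nat.card B * p < Nat.card E := by
    rw [← hcard1]
    refine lt_of_le_of_ne (Subgroup.card_le_of_le (sup_le hBE (Subgroup.zpowers_le.2 he1)))
      fun h => htop (Subgroup.eq_of_le_of_card_ge (sup_le hBE (Subgroup.zpowers_le.2 he1)) h.ge)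
  refine le_trans ?_ (ih (Nat.card E - Nat.card ↥(B ⊔ Subgroup.zpowers a)) ?_
    (B := B ⊔ Subgroup.zpowers a) (sup_le hBE (Subgroup.zpowers_le.2 haE)) ?_
    (fun H hH hBH hc => hX H hH (le_sup_left.trans hBH) hc) rfl)
  · rintro y ⟨⟨hyK, hyB⟩, hya⟩
    refine ⟨hyK, Subgroup.mem_centralizer_iff.2 fun g hg => ?_⟩
    have hle : B ⊔ Subgroup.zpowers a ≤ Subgroup.centralizer ({y} : Set G) :=
      sup_le (fun b hb => Subgroup.mem_centralizer_singleton_iff.2
          (Subgroup.mem_centralizer_iff.1 hyB b hb))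
        (Subgroup.zpowers_le.2 (Subgroup.mem_centralizer_singleton_iff.2
          (Subgroup.mem_centralizer_singleton_iff.1 hya).symm))
    exact Subgroup.mem_centralizer_singleton_iff.1 (hle hg)
  · rw [hcarda, hd]
    have : Nat.card B < Nat.card B * p := lt_mul_of_one_lt_right hBpos hp1
    omega
  · intro h
    rw [← h, hcarda] at hlt
    exact lt_irrefl _ hlt

/-- The standing hypotheses. -/
structure Cfg (p m : ℕ) (G : Type*) [Group G] : Prop where
  hp : p ≠ 2
  hP : Cfsg.IsOfLocalCharacteristic p G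
  h2 : Cfsg.IsCharacteristicTwoType G
  hm : 3 ≤ m
  bnd : Bnd p m G

/-- An involution centralising an elementary abelian group of maximal order. -/
structure IsPair (p m : ℕ) (t : G) (E : Subgroup G) : Prop where
  ht : orderOf t = 2
  hE : IsEl p E
  hcard : Nat.card E = p ^ m
  hc : ∀ e ∈ E, Commute e t

/-- `O₂(C(t))`. -/
def Tof (t : G) : Subgroup G :=
  (Cfsg.pCore 2 ↥(Subgroup.normalizer (Subgroup.zpowers t : Set G))).map
    (Subgroup.normalizer (Subgroup.zpowers t : Set G)).subtype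

theorem mem_normalizer_zpowers {t g : G} (ht : orderOf t = 2) :
    g ∈ Subgroup.normalizer (Subgroup.zpowers t : Set G) ↔ Commute g t := by
  constructor
  · intro hg
    obtain ⟨i, hi⟩ := Subgroup.mem_zpowers_iff.1
      ((Subgroup.mem_normalizer_iff.1 hg t).1 (Subgroup.mem_zpowers t))
    have ht2 : t ^ (2 : ℤ) = 1 := by rw [zpow_ofNat, ← ht, pow_orderOf_eq_one]
    rcases Int.even_or_odd i with ⟨k, rfl⟩ | ⟨k, rfl⟩
    · rw [← two_mul, zpow_mul, ht2, one_zpow] at hi
      have : t = 1 := by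
        have h := congrArg (fun y => g⁻¹ * y * g) hi
        simpa [mul_assoc] using h.symm
      rw [this, orderOf_one] at ht
      omega
    · rw [zpow_add, zpow_mul, ht2, one_zpow, one_mul, zpow_one] at hi
      exact mul_inv_eq_iff_eq_mul.1 hi.symm
  · intro hg
    refine Subgroup.centralizer_le_normalizer _ (Subgroup.mem_centralizer_iff.2 fun y hy => ?_)
    obtain ⟨i, rfl⟩ := Subgroup.mem_zpowers_iff.1 hy
    exact (hg.zpow_right i).symm.eq

variable [Finite G]

theorem isPGroup_tof (t : G) : IsPGroup 2 (Tof t) :=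
  haveI : Fact (Nat.Prime 2) := ⟨Nat.prime_two⟩
  AxB.isPGroup_pCoreOf 2 _

theorem commute_of_mem_tof {t g : G} (ht : orderOf t = 2) (hg : g ∈ Tof t) : Commute g t := by
  obtain ⟨y, -, rfl⟩ := hg
  exact (mem_normalizer_zpowers ht).1 y.2

theorem mem_normalizer_tof {t g : G} (ht : orderOf t = 2) (hg : Commute g t) :
    g ∈ Subgroup.normalizer (Tof t : Set G) :=
  AxB.le_normalizer_map_subtype inferInstance ((mem_normalizer_zpowers ht).2 hg)

theorem self_mem_tof {t : G} (ht : orderOf t = 2) : t ∈ Tof t := by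
  haveI : Fact (Nat.Prime 2) := ⟨Nat.prime_two⟩
  refine AxB.le_pCoreOf Subgroup.le_normalizer le_rfl ?_ (Subgroup.mem_zpowers t)
  exact IsPGroup.of_card (n := 1) (by rw [Nat.card_zpowers, ht, pow_one])

theorem mem_tof_of_centralizes (h2 : Cfsg.IsCharacteristicTwoType G) {t g : G}
    (ht : orderOf t = 2) (hg : Commute g t) (h : ∀ y ∈ Tof t, Commute g y) : g ∈ Tof t := by
  haveI : Fact (Nat.Prime 2) := ⟨Nat.prime_two⟩
  have hgN := (mem_normalizer_zpowers ht).2 hg
  refine ⟨⟨g, hgN⟩, h2.2 (Subgroup.zpowers t) (IsPGroup.of_card (n := 1)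
    (by rw [Nat.card_zpowers, ht, pow_one])) (Subgroup.zpowers_ne_bot.2 ?_) ?_, rfl⟩
  · intro h1; rw [h1, orderOf_one] at ht; omega
  · rw [Subgroup.mem_centralizer_iff]
    intro y hy
    exact Subtype.ext (h y ⟨y, hy, rfl⟩).symm

variable [Fact p.Prime] {m : ℕ} {t : G} {E : Subgroup G}

theorem IsPair.mem_centralizer (hE : IsPair p m t E) :
    t ∈ Subgroup.centralizer (E : Set G) :=
  Subgroup.mem_centralizer_iff.2 fun e he => (hE.hc e he).eq

theorem IsPair.le_normalizer (hE : IsPair p m t E) :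
    E ≤ Subgroup.normalizer (Tof t : Set G) :=
  fun e he => mem_normalizer_tof hE.ht (hE.hc e he)

/-- A hyperplane has order `p ^ (m - 1)`. -/
theorem IsPair.card_hyper (hC : Cfg p m G) (hE : IsPair p m t E) {B : Subgroup G}
    (hB : Nat.card B * p = Nat.card E) : Nat.card B = p ^ (m - 1) := by
  have h1 := (Fact.out : p.Prime).pos
  refine Nat.eq_of_mul_eq_mul_right h1 ?_
  rw [hB, hE.hcard, ← pow_succ]
  congr 1
  have := hC.hm
  omega

theorem IsPair.eq_of_fixed (hC : Cfg p m G) (hE : IsPair p m t E) {z : G} (hz : z ∈ Tof t)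
    (hz2 : z * z = 1) (hze : ∀ e ∈ E, Commute e z) : z = 1 ∨ z = t := by
  by_cases h1 : z = 1
  · exact Or.inl h1
  right
  haveI : Fact (Nat.Prime 2) := ⟨Nat.prime_two⟩
  refine no_klein hC.hp hC.hP (by have := hC.hm; omega) hC.bnd hE.hE hE.hcard
    (orderOf_eq_prime (by rw [sq]; exact hz2) h1) hE.ht (commute_of_mem_tof hE.ht hz)
    (Subgroup.mem_centralizer_iff.2 fun e he => (hze e he).eq) hE.mem_centralizer

/-- An involution of `C_T(B)` commuting with its conjugate under `e` is fixed by `e`. -/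
theorem IsPair.inv_fix (hC : Cfg p m G) (hE : IsPair p m t E) {B : Subgroup G} (hBE : B ≤ E)
    (hB : Nat.card B * p = Nat.card E) {e z : G} (he : e ∈ E) (hz : z ∈ Tof t)
    (hzB : ∀ b ∈ B, Commute b z) (hz2 : z * z = 1) (hcz : Commute z (e * z * e⁻¹)) :
    e * z * e⁻¹ = z := by
  by_contra hne
  haveI : Fact (Nat.Prime 2) := ⟨Nat.prime_two⟩
  have h1 : z ≠ 1 := fun h => hne (by rw [h]; group)
  have het := hE.hc e he
  have hzt : z ≠ t := fun h => hne (by rw [h, het.eq, mul_inv_cancel_right])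
  have hzo : orderOf z = 2 := orderOf_eq_prime (by rw [sq]; exact hz2) h1
  have htt : t * t = 1 := by rw [← sq, ← hE.ht, pow_orderOf_eq_one]
  have hct : Commute z t := commute_of_mem_tof hE.ht hz
  set z' := e * z * e⁻¹ with hz'
  have hz'T : z' ∈ Tof t := (Subgroup.mem_normalizer_iff.1 (hE.le_normalizer he) z).1 hz
  have hz'o : orderOf z' = 2 := orderOf_eq_prime
    (by rw [hz', conj_pow, sq, hz2, mul_one, mul_inv_cancel]) (fun h => h1 (by
      rw [hz', mul_inv_eq_one, mul_eq_left] at h; exact h))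
  have h3 : z' ≠ t * z := by
    intro h
    have h2 : e * e * z * (e * e)⁻¹ = z := by
      calc e * e * z * (e * e)⁻¹ = e * z' * e⁻¹ := by rw [hz']; group
        _ = e * (t * z) * e⁻¹ := by rw [h]
        _ = (e * t * e⁻¹) * (e * z * e⁻¹) := by group
        _ = t * z' := by rw [het.eq, mul_inv_cancel_right]
        _ = z := by rw [h, ← mul_assoc, htt, one_mul]
    obtain ⟨k, hk⟩ := (Fact.out : p.Prime).odd_of_ne_two hC.hp
    have hee : e = (e * e) ^ (k + 1) := by
      rw [← sq, ← pow_mul, show 2 * (k + 1) = p + 1 by omega, pow_succ, hE.hE.2 e he, one_mul]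
    have h5 : Commute (e * e) z := mul_inv_eq_iff_eq_mul.1 h2
    exact hne (by
      have h6 : Commute e z := hee ▸ h5.pow_left (k + 1)
      rw [hz', h6.eq, mul_inv_cancel_right])
  have hBc : ∀ b ∈ B, Commute b z' := fun b hb => by
    have hbe : Commute b e := hE.hE.1 b (hBE hb) e he
    exact (hbe.mul_right (hzB b hb)).mul_right hbe.inv_right
  refine no_eight hC.hp hC.hP (m := m - 1) (u := t) (v := z) (w := z') ?_ (hE.hE.mono hBE)
    (hE.card_hyper hC hB) (by have := hC.hm; omega) hE.ht hzo hz'o hct.symm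
    (commute_of_mem_tof hE.ht hz'T).symm hcz ?_ ?_ ?_ (Ne.symm hzt) ?_ hne h3
  · rw [show m - 1 + 1 = m by have := hC.hm; omega]; exact hC.bnd
  · exact Subgroup.mem_centralizer_iff.2 fun b hb => (hE.hc b (hBE hb)).eq
  · exact Subgroup.mem_centralizer_iff.2 fun b hb => (hzB b hb).eq
  · exact Subgroup.mem_centralizer_iff.2 fun b hb => (hBc b hb).eq
  · intro h
    rw [hz', mul_inv_eq_iff_eq_mul, ← het.eq, mul_right_inj] at h
    exact hzt h

theorem coprime_card_tof (hp : p ≠ 2) (t : G) {K : Subgroup G} (hK : K ≤ Tof t) :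
    p.Coprime (Nat.card K) := by
  haveI : Fact (Nat.Prime 2) := ⟨Nat.prime_two⟩
  obtain ⟨k, hk⟩ := ((isPGroup_tof t).to_le hK).exists_card_eq
  rw [hk]
  exact (coprime_two hp).symm.pow_right k

/-- `E` centralises every abelian subgroup of `T` which it normalises. -/
theorem IsPair.abelian_fix (hC : Cfg p m G) (hE : IsPair p m t E) {U : Subgroup G}
    (hU : U ≤ Tof t) (hUc : ∀ a ∈ U, ∀ b ∈ U, Commute a b)
    (hEU : E ≤ Subgroup.normalizer (U : Set G)) : ∀ e ∈ E, ∀ u ∈ U, Commute e u := by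
  have hbot : (⊥ : Subgroup G) ≠ E := fun h => by
    have := hE.hcard
    rw [← h, Subgroup.card_bot] at this
    have := Nat.one_lt_pow (by have := hC.hm; omega : m ≠ 0) (Fact.out : p.Prime).one_lt
    omega
  have hle : U ⊓ Subgroup.centralizer ((⊥ : Subgroup G) : Set G) ≤
      Subgroup.centralizer (E : Set G) := by
    refine hyperplane_le hE.hE hEU (coprime_card_tof hC.hp t hU) bot_le hbot ?_
    intro H hH _ hHc
    set V := U ⊓ Subgroup.centralizer (H : Set G) with hV
    haveI : IsMulCommutative V := ⟨⟨fun a b => Subtype.ext (hUc a a.2.1 b b.2.1)⟩⟩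
    have hEV : E ≤ Subgroup.normalizer (V : Set G) :=
      le_normalizer_inf_centralizer hEU fun a ha b hb => hE.hE.1 a ha b (hH hb)
    have hcop : (Nat.card E).Coprime (Nat.card V) := by
      rw [hE.hcard]
      exact (coprime_card_tof hC.hp t (inf_le_left.trans hU)).pow_left m
    refine Subgroup.le_centralizer_iff.1 (CoprimeAct.le_centralizer_of_fix_prime hEV hcop ?_)
    intro v hv hvp e he
    obtain ⟨k, hk⟩ := IsPGroup.iff_orderOf.1 (isPGroup_tof t) ⟨v, hU hv.1⟩
    rw [Subgroup.orderOf_mk] at hk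
    have hk1 : k = 1 := by
      rw [hk] at hvp
      exact (Nat.Prime.eq_one_of_pow hvp)
    subst hk1
    have hv2 : v * v = 1 := by
      rw [← sq]; rw [pow_one] at hk; rw [← hk]; exact pow_orderOf_eq_one v
    have hcz : Commute v (e * v * e⁻¹) :=
      hUc v hv.1 _ ((Subgroup.mem_normalizer_iff.1 (hEU he) v).1 hv.1)
    exact mul_inv_eq_iff_eq_mul.1 (hE.inv_fix hC hH hHc he (hU hv.1)
      (fun b hb => Subgroup.mem_centralizer_iff.1 hv.2 b hb) hv2 hcz)
  intro e he u hu
  exact Subgroup.mem_centralizer_iff.1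
    (hle ⟨hu, Subgroup.mem_centralizer_iff.2 fun g hg => by
      rw [SetLike.mem_coe, Subgroup.mem_bot] at hg; simp [hg]⟩) e he

theorem conj_commutatorElement (g a b : G) :
    g * ⁅a, b⁆ * g⁻¹ = ⁅g * a * g⁻¹, g * b * g⁻¹⁆ := by
  simp only [commutatorElement_def]; group

section Moved

variable (hC : Cfg p m G) (hE : IsPair p m t E) {P : Subgroup G} (hPT : P ≤ Tof t)
  (hEP : E ≤ Subgroup.normalizer (P : Set G)) (hPE : ⁅P, E⁆ = P)

include hPE in
/-- A fixed element with central fixed commutators is central. -/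
theorem commute_fixed {d : G} (hd : ∀ e ∈ E, Commute e d)
    (hEP : E ≤ Subgroup.normalizer (P : Set G))
    (h : ∀ x ∈ P, (∀ y ∈ P, Commute ⁅x, d⁆ y) ∧ ∀ e ∈ E, Commute e ⁅x, d⁆) :
    ∀ x ∈ P, Commute x d := by
  have hle : P ≤ Subgroup.centralizer ({d} : Set G) := by
    conv_lhs => rw [← hPE]
    rw [Subgroup.commutator_le]
    intro x hx e he
    rw [Subgroup.mem_centralizer_singleton_iff]
    set x' := e * x * e⁻¹ with hx'
    have hx'P : x' ∈ P := (Subgroup.mem_normalizer_iff.1 (hEP he) x).1 hx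
    have hxe : ⁅x, e⁆ = x * x'⁻¹ := by rw [hx', commutatorElement_def]; group
    set c := ⁅x, d⁆ with hc
    have hc' : ⁅x', d⁆ = c := by
      calc ⁅x', d⁆ = e * c * e⁻¹ := by
            rw [hc, hx', conj_commutatorElement, (hd e he).eq, mul_inv_cancel_right]
        _ = c := by rw [((h x hx).2 e he).eq, mul_inv_cancel_right]
    have h1 : x * d = c * d * x := by rw [hc, commutatorElement_def]; group
    have h2 : x' * d = c * d * x' := by rw [← hc', commutatorElement_def]; group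
    have hcx : Commute c x' := (h x hx).1 x' hx'P
    have hcxx : Commute c x := (h x hx).1 x hx
    rw [hxe]
    calc x * x'⁻¹ * d = x * x'⁻¹ * (c⁻¹ * (c * d * x') * x'⁻¹) := by group
      _ = x * (x'⁻¹ * c⁻¹ * x') * d * x'⁻¹ := by rw [← h2]; group
      _ = x * c⁻¹ * d * x'⁻¹ := by rw [mul_assoc x'⁻¹, hcx.inv_left.eq, inv_mul_cancel_left]
      _ = c⁻¹ * (x * d) * x'⁻¹ := by rw [← hcxx.inv_left.eq]; group
      _ = d * (x * x'⁻¹) := by rw [h1]; group
  intro x hx
  exact Subgroup.mem_centralizer_singleton_iff.1 (hle hx)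

include hC hE hPT hEP

theorem center_fixed {z : G} (hz : z ∈ P) (hzc : ∀ x ∈ P, Commute z x) :
    ∀ e ∈ E, Commute e z := by
  intro e he
  refine hE.abelian_fix hC (U := P ⊓ Subgroup.centralizer (P : Set G)) (inf_le_left.trans hPT)
    (fun a ha b hb => Subgroup.mem_centralizer_iff.1 hb.2 a ha.1)
    ((le_inf hEP (fun f hf => ?_)).trans Subgroup.inf_normalizer_le_normalizer_inf) e he z
    ⟨hz, Subgroup.mem_centralizer_iff.2 fun x hx => (hzc x hx).symm.eq⟩
  rw [Subgroup.mem_normalizer_iff]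
  intro y
  constructor
  · intro hy
    rw [Subgroup.mem_centralizer_iff] at hy ⊢
    intro x hx
    have := hy (f⁻¹ * x * f) ((Subgroup.mem_normalizer_iff''.1 (hEP hf) x).1 hx)
    calc x * (f * y * f⁻¹) = f * ((f⁻¹ * x * f) * y) * f⁻¹ := by group
      _ = f * y * f⁻¹ * x := by rw [this]; group
  · intro hy
    rw [Subgroup.mem_centralizer_iff] at hy ⊢
    intro x hx
    have := hy (f * x * f⁻¹) ((Subgroup.mem_normalizer_iff.1 (hEP hf) x).1 hx)
    calc x * y = f⁻¹ * ((f * x * f⁻¹) * (f * y * f⁻¹)) * f := by group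
      _ = y * x := by rw [this]; group

include hPE

theorem comm_central {a b : G} (ha : a ∈ P) (hb : b ∈ P) : ∀ y ∈ P, Commute ⁅a, b⁆ y := by
  by_contra hcon
  haveI : Fact (Nat.Prime 2) := ⟨Nat.prime_two⟩
  haveI := ((isPGroup_tof t).to_le hPT).isNilpotent
  have hnle : ¬ commutator ↥P ≤ Subgroup.center ↥P := fun h => hcon fun y hy =>
    (congrArg Subtype.val (Subgroup.mem_center_iff.1 (h (Subgroup.commutator_mem_commutator
      (Subgroup.mem_top (⟨a, ha⟩ : ↥P)) (Subgroup.mem_top (⟨b, hb⟩ : ↥P)))) ⟨y, hy⟩)).symm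
  obtain ⟨d, hd, hdZ, hdc⟩ := OddOrder.Nilp.exists_mem_commutator_le hnle
  let D2 : Subgroup G :=
    { carrier := {g | g ∈ (⁅P, P⁆ : Subgroup G) ∧ ∀ x ∈ P, ∀ y ∈ P, Commute ⁅x, g⁆ y}
      one_mem' := ⟨one_mem _, fun x _ y _ => by simp [commutatorElement_def]⟩
      mul_mem' := by
        rintro g g' ⟨hg, h⟩ ⟨hg', h'⟩
        refine ⟨mul_mem hg hg', fun x hx y hy => ?_⟩
        have hgP : g ∈ P := Subgroup.commutator_le_self _ hg
        have : ⁅x, g * g'⁆ = ⁅x, g⁆ * ⁅x, g'⁆ := by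
          calc ⁅x, g * g'⁆ = ⁅x, g⁆ * (g * ⁅x, g'⁆ * g⁻¹) := by
                simp only [commutatorElement_def]; group
            _ = ⁅x, g⁆ * ⁅x, g'⁆ := by rw [← (h' x hx g hgP).eq, mul_inv_cancel_right]
        rw [this]
        exact (h x hx y hy).mul_left (h' x hx y hy)
      inv_mem' := by
        rintro g ⟨hg, h⟩
        refine ⟨inv_mem hg, fun x hx y hy => ?_⟩
        have hgP : g ∈ P := Subgroup.commutator_le_self _ hg
        have : ⁅x, g⁻¹⁆ = ⁅x, g⁆⁻¹ := by
          calc ⁅x, g⁻¹⁆ = g⁻¹ * ⁅x, g⁆⁻¹ * g := by simp only [commutatorElement_def]; group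
            _ = ⁅x, g⁆⁻¹ := by rw [mul_assoc, (h x hx g hgP).inv_left.eq, inv_mul_cancel_left]
        rw [this]
        exact (h x hx y hy).inv_left }
  have hD2P : D2 ≤ P := fun g hg => Subgroup.commutator_le_self _ hg.1
  have hab : ∀ g ∈ D2, ∀ g' ∈ D2, Commute g g' := by
    intro g hg g' hg'
    have hle : (⁅P, P⁆ : Subgroup G) ≤ Subgroup.centralizer ({g} : Set G) := by
      rw [Subgroup.commutator_le]
      intro u hu v hv
      rw [Subgroup.mem_centralizer_singleton_iff]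
      have key : ∀ w ∈ P, w * g * w⁻¹ = ⁅w, g⁆ * g := fun w _ => by
        simp only [commutatorElement_def]; group
      have hm : ∀ w ∈ P, ∀ w' ∈ P, ⁅w * w', g⁆ = ⁅w, g⁆ * ⁅w', g⁆ := by
        intro w hw w' hw'
        calc ⁅w * w', g⁆ = w * ⁅w', g⁆ * w⁻¹ * ⁅w, g⁆ := by
              simp only [commutatorElement_def]; group
          _ = ⁅w', g⁆ * ⁅w, g⁆ := by rw [← (hg.2 w' hw' w hw).eq, mul_inv_cancel_right]
          _ = ⁅w, g⁆ * ⁅w', g⁆ :=
            hg.2 w' hw' _ (Subgroup.commutator_le_self P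
              (Subgroup.commutator_mem_commutator hw (hD2P hg)))
      have h1 : ⁅⁅u, v⁆, g⁆ = 1 := by
        have hvu : v * u ∈ P := mul_mem hv hu
        have huv : ⁅u, v⁆ ∈ P :=
          Subgroup.commutator_le_self P (Subgroup.commutator_mem_commutator hu hv)
        have e1 := hm ⁅u, v⁆ huv (v * u) hvu
        have e2 : ⁅u, v⁆ * (v * u) = u * v := by simp only [commutatorElement_def]; group
        rw [e2, hm u hu v hv, hm v hv u hu, hg.2 u hu _ (Subgroup.commutator_le_self P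
          (Subgroup.commutator_mem_commutator hv (hD2P hg)))] at e1
        exact (mul_eq_right.1 e1.symm)
      exact commutatorElement_eq_one_iff_mul_comm.1 h1
    exact (Subgroup.mem_centralizer_singleton_iff.1 (hle hg'.1)).symm
  have hinv : E ≤ Subgroup.normalizer (D2 : Set G) := by
    have key : ∀ f ∈ E, ∀ g ∈ D2, f * g * f⁻¹ ∈ D2 := by
      intro f hf g hg
      have hPP : f ∈ Subgroup.normalizer ((⁅P, P⁆ : Subgroup G) : Set G) := by
        have hmap : ∀ f ∈ E, ∀ y ∈ (⁅P, P⁆ : Subgroup G), f * y * f⁻¹ ∈ (⁅P, P⁆ : Subgroup G) := by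
          intro f hf y hy
          have h1 : (MulAut.conj f).toMonoidHom y ∈
              (⁅P, P⁆ : Subgroup G).map (MulAut.conj f).toMonoidHom := Subgroup.mem_map_of_mem _ hy
          rw [Subgroup.map_commutator, AxB.map_conj_eq_of_mem_normalizer (hEP hf)] at h1
          simpa using h1
        rw [Subgroup.mem_normalizer_iff]
        exact fun y => ⟨hmap f hf y, fun hy => by
          simpa [mul_assoc] using hmap f⁻¹ (inv_mem hf) _ hy⟩
      refine ⟨(Subgroup.mem_normalizer_iff.1 hPP g).1 hg.1, fun x hx y hy => ?_⟩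
      have h1 := hg.2 (f⁻¹ * x * f) ((Subgroup.mem_normalizer_iff''.1 (hEP hf) x).1 hx)
        (f⁻¹ * y * f) ((Subgroup.mem_normalizer_iff''.1 (hEP hf) y).1 hy)
      have h2 : ⁅x, f * g * f⁻¹⁆ = f * ⁅f⁻¹ * x * f, g⁆ * f⁻¹ := by
        rw [conj_commutatorElement]; group
      rw [h2]
      calc f * ⁅f⁻¹ * x * f, g⁆ * f⁻¹ * y
          = f * (⁅f⁻¹ * x * f, g⁆ * (f⁻¹ * y * f)) * f⁻¹ := by group
        _ = y * (f * ⁅f⁻¹ * x * f, g⁆ * f⁻¹) := by rw [h1.eq]; group
    intro f hf
    rw [Subgroup.mem_normalizer_iff]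
    exact fun g => ⟨key f hf g, fun hg => by simpa [mul_assoc] using key f⁻¹ (inv_mem hf) _ hg⟩
  have hdc' : ∀ x : ↥P, ⁅x, d⁆ ∈ Subgroup.center ↥P := fun x => by
    rw [← commutatorElement_inv]; exact inv_mem (hdc x)
  have hdD : (d : G) ∈ D2 := by
    refine ⟨?_, fun x hx y hy => ?_⟩
    · have h1 : (d : G) ∈ (commutator ↥P).map P.subtype := ⟨d, hd, rfl⟩
      rwa [commutator_def, Subgroup.map_commutator, ← MonoidHom.range_eq_map,
        Subgroup.range_subtype] at h1
    · have := Subgroup.mem_center_iff.1 (hdc' ⟨x, hx⟩) ⟨y, hy⟩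
      exact (congrArg Subtype.val this).symm
  have hdfix := hE.abelian_fix hC (hD2P.trans hPT) hab hinv
  have hdcen := commute_fixed hPE (d := (d : G)) (fun e he => hdfix e he d hdD) hEP
    (fun x hx => ⟨hdD.2 x hx, center_fixed hC hE hPT hEP
      (Subgroup.commutator_le_self P (Subgroup.commutator_mem_commutator hx d.2)) (hdD.2 x hx)⟩)
  exact hdZ (Subgroup.mem_center_iff.2 fun y => Subtype.ext (hdcen y y.2).eq)

theorem comm_mul_left {a b c : G} (ha : a ∈ P) (hb : b ∈ P) (hc : c ∈ P) :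
    ⁅a * b, c⁆ = ⁅a, c⁆ * ⁅b, c⁆ := by
  calc ⁅a * b, c⁆ = a * ⁅b, c⁆ * a⁻¹ * ⁅a, c⁆ := by simp only [commutatorElement_def]; group
    _ = ⁅b, c⁆ * ⁅a, c⁆ := by
      rw [← (comm_central hC hE hPT hEP hPE hb hc a ha).eq, mul_inv_cancel_right]
    _ = ⁅a, c⁆ * ⁅b, c⁆ := comm_central hC hE hPT hEP hPE hb hc _
      (Subgroup.commutator_le_self P (Subgroup.commutator_mem_commutator ha hc))

theorem comm_pow_left {a c : G} (ha : a ∈ P) (hc : c ∈ P) (n : ℕ) :
    ⁅a ^ n, c⁆ = ⁅a, c⁆ ^ n := by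
  induction n with
  | zero => simp [commutatorElement_def]
  | succ n ih => rw [pow_succ, comm_mul_left hC hE hPT hEP hPE (pow_mem ha n) ha hc, ih, pow_succ]

theorem comm_fixed {a b : G} (ha : a ∈ P) (hb : b ∈ P) : ∀ e ∈ E, Commute e ⁅a, b⁆ :=
  center_fixed hC hE hPT hEP
    (Subgroup.commutator_le_self P (Subgroup.commutator_mem_commutator ha hb))
    (comm_central hC hE hPT hEP hPE ha hb)

theorem comm_sq {a b : G} (ha : a ∈ P) (hb : b ∈ P) : ⁅a, b⁆ * ⁅a, b⁆ = 1 := by
  classical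
  haveI : Fact (Nat.Prime 2) := ⟨Nat.prime_two⟩
  have hPin : ∀ {a b : G}, a ∈ P → b ∈ P → ⁅a, b⁆ ∈ P := fun ha hb =>
    Subgroup.commutator_le_self P (Subgroup.commutator_mem_commutator ha hb)
  have hex : ∃ n : ℕ, ∀ a ∈ P, ∀ b ∈ P, ⁅a, b⁆ ^ 2 ^ n = 1 := by
    obtain ⟨N, hN⟩ := ((isPGroup_tof t).to_le hPT).exists_card_eq
    exact ⟨N, fun a ha b hb => hN ▸
      congrArg Subtype.val (pow_card_eq_one' (x := (⟨_, hPin ha hb⟩ : ↥P)))⟩
  have hn := Nat.find_spec hex
  by_contra hne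
  have h2 : 2 ≤ Nat.find hex := by
    by_contra h
    apply hne
    have := hn a ha b hb
    rw [← sq]
    interval_cases h' : Nat.find hex
    · rw [pow_zero, pow_one] at this; rw [this, one_pow]
    · simpa using this
  obtain ⟨k, hk⟩ : ∃ k, Nat.find hex = k + 1 := ⟨Nat.find hex - 1, by omega⟩
  refine Nat.find_min hex (m := k) (by omega) ?_
  set U := Subgroup.closure ((fun y => y ^ 2 ^ k) '' (P : Set G)) with hU
  have hUP : U ≤ P := by
    rw [hU, Subgroup.closure_le]
    rintro _ ⟨y, hy, rfl⟩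
    exact pow_mem hy _
  have hUc : ∀ u ∈ U, ∀ v ∈ U, Commute u v := by
    haveI : IsMulCommutative U := Subgroup.isMulCommutative_closure (by
      rintro _ ⟨y, hy, rfl⟩ _ ⟨y', hy', rfl⟩
      apply commutatorElement_eq_one_iff_mul_comm.1
      rw [comm_pow_left hC hE hPT hEP hPE hy (pow_mem hy' _), ← commutatorElement_inv,
        comm_pow_left hC hE hPT hEP hPE hy' hy, inv_pow, ← pow_mul, inv_eq_one, ← pow_add]
      obtain ⟨j, hj⟩ : ∃ j, k + k = Nat.find hex + j := ⟨k + k - Nat.find hex, by omega⟩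
      rw [hj, pow_add, pow_mul, hn y' hy' y hy, one_pow])
    exact fun u hu v hv => congrArg Subtype.val (mul_comm' (⟨u, hu⟩ : ↥U) ⟨v, hv⟩)
  have hEU : E ≤ Subgroup.normalizer (U : Set G) := by
    have key : ∀ f ∈ E, ∀ u ∈ U, f * u * f⁻¹ ∈ U := by
      intro f hf u hu
      induction hu using Subgroup.closure_induction with
      | mem u hu =>
        obtain ⟨y, hy, rfl⟩ := hu
        exact Subgroup.subset_closure
          ⟨f * y * f⁻¹, (Subgroup.mem_normalizer_iff.1 (hEP hf) y).1 hy, conj_pow⟩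
      | one => simp
      | mul u v _ _ ihu ihv =>
        rw [show f * (u * v) * f⁻¹ = f * u * f⁻¹ * (f * v * f⁻¹) by group]
        exact mul_mem ihu ihv
      | inv u _ ih => rw [← conj_inv]; exact inv_mem ih
    intro f hf
    rw [Subgroup.mem_normalizer_iff]
    exact fun g => ⟨key f hf g, fun hg => by simpa [mul_assoc] using key f⁻¹ (inv_mem hf) _ hg⟩
  intro x hx y hy
  have hxU : x ^ 2 ^ k ∈ U := Subgroup.subset_closure ⟨x, hx, rfl⟩
  have := commute_fixed hPE (d := x ^ 2 ^ k)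
    (fun e he => hE.abelian_fix hC (hUP.trans hPT) hUc hEU e he _ hxU) hEP
    (fun z hz => ⟨comm_central hC hE hPT hEP hPE hz (pow_mem hx _),
      comm_fixed hC hE hPT hEP hPE hz (pow_mem hx _)⟩) y hy
  rw [← comm_pow_left hC hE hPT hEP hPE hx hy]
  exact commutatorElement_eq_one_iff_mul_comm.2 this.symm.eq

theorem comm_mem {a b : G} (ha : a ∈ P) (hb : b ∈ P) : ⁅a, b⁆ = 1 ∨ ⁅a, b⁆ = t :=
  hE.eq_of_fixed hC
    (hPT (Subgroup.commutator_le_self P (Subgroup.commutator_mem_commutator ha hb)))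
    (comm_sq hC hE hPT hEP hPE ha hb) (comm_fixed hC hE hPT hEP hPE ha hb)

theorem sq_mem {a : G} (ha : a ∈ P) : a * a = 1 ∨ a * a = t := by
  have htt : t * t = 1 := by rw [← sq, ← hE.ht, pow_orderOf_eq_one]
  have hti : t⁻¹ = t := inv_eq_of_mul_eq_one_right htt
  have hmul : ∀ u v : G, (u = 1 ∨ u = t) → (v = 1 ∨ v = t) → u * v = 1 ∨ u * v = t := by
    rintro u v (rfl | rfl) (rfl | rfl) <;> simp [htt]
  have hsqc : ∀ x ∈ P, ∀ y ∈ P, Commute (x * x) y := fun x hx y hy => by
    apply commutatorElement_eq_one_iff_mul_comm.1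
    rw [comm_mul_left hC hE hPT hEP hPE hx hx hy]
    exact comm_sq hC hE hPT hEP hPE hx hy
  have hprod : ∀ x ∈ P, ∀ y ∈ P, x * y * (x * y) = ⁅y, x⁆ * ((x * x) * (y * y)) := by
    intro x hx y hy
    calc x * y * (x * y) = x * (⁅y, x⁆ * (x * (y * y))) := by
          simp only [commutatorElement_def]; group
      _ = ⁅y, x⁆ * ((x * x) * (y * y)) := by
        rw [← mul_assoc x, ← (comm_central hC hE hPT hEP hPE hy hx x hx).eq]; group
  let Q4 : Subgroup G :=
    { carrier := {x | x ∈ P ∧ (x * x = 1 ∨ x * x = t)}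
      one_mem' := ⟨one_mem _, by simp⟩
      mul_mem' := by
        rintro x y ⟨hx, hx'⟩ ⟨hy, hy'⟩
        refine ⟨mul_mem hx hy, ?_⟩
        rw [hprod x hx y hy]
        exact hmul _ _ (comm_mem hC hE hPT hEP hPE hy hx) (hmul _ _ hx' hy')
      inv_mem' := by
        rintro x ⟨hx, hx'⟩
        refine ⟨inv_mem hx, ?_⟩
        rw [← mul_inv_rev]
        rcases hx' with h | h <;> simp [h, hti] }
  suffices h : P ≤ Q4 from (h ha).2
  conv_lhs => rw [← hPE]
  rw [Subgroup.commutator_le]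
  intro x hx e he
  set x' := e * x * e⁻¹ with hx'
  have hx'P : x' ∈ P := (Subgroup.mem_normalizer_iff.1 (hEP he) x).1 hx
  have hxe : ⁅x, e⁆ = x * x'⁻¹ := by rw [hx', commutatorElement_def]; group
  have hsq : x' * x' = x * x := by
    have h1 : Commute e (x * x) := center_fixed hC hE hPT hEP (mul_mem hx hx) (hsqc x hx) e he
    calc x' * x' = e * (x * x) * e⁻¹ := by rw [hx']; group
      _ = x * x := by rw [h1.eq, mul_inv_cancel_right]
  refine ⟨hxe ▸ mul_mem hx (inv_mem hx'P), ?_⟩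
  rw [hxe, hprod x hx _ (inv_mem hx'P), ← mul_inv_rev x', hsq, mul_inv_cancel, mul_one]
  exact comm_mem hC hE hPT hEP hPE (inv_mem hx'P) hx

theorem fixed_mem {u : G} (hu : u ∈ P) (hue : ∀ e ∈ E, Commute e u) : u = 1 ∨ u = t := by
  haveI : Fact (Nat.Prime 2) := ⟨Nat.prime_two⟩
  have htt : t * t = 1 := by rw [← sq, ← hE.ht, pow_orderOf_eq_one]
  set Γ := Subgroup.centralizer ({t} : Set G) with hΓ
  have hPΓ : P ≤ Γ := fun y hy =>
    Subgroup.mem_centralizer_singleton_iff.2 (commute_of_mem_tof hE.ht (hPT hy)).eq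
  have hEΓ : E ≤ Γ := fun e he => Subgroup.mem_centralizer_singleton_iff.2 (hE.hc e he).eq
  let t' : ↥Γ := ⟨t, Subgroup.mem_centralizer_singleton_iff.2 rfl⟩
  haveI : (Subgroup.zpowers t').Normal := ⟨fun n hn g => by
    obtain ⟨i, rfl⟩ := Subgroup.mem_zpowers_iff.1 hn
    have hgt : Commute g t' := Subtype.ext (Subgroup.mem_centralizer_singleton_iff.1 g.2)
    rw [(hgt.zpow_right i).eq, mul_inv_cancel_right]
    exact Subgroup.zpow_mem_zpowers _ _⟩
  set π := QuotientGroup.mk' (Subgroup.zpowers t') with hπ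
  have hcomm : ⁅P.subgroupOf Γ, E.subgroupOf Γ⁆ = P.subgroupOf Γ := by
    apply Subgroup.map_injective Γ.subtype_injective
    rw [Subgroup.map_commutator, Subgroup.map_subgroupOf_eq_of_le hPΓ,
      Subgroup.map_subgroupOf_eq_of_le hEΓ, hPE]
  set V := (P.subgroupOf Γ).map π with hV
  haveI : IsMulCommutative V := ⟨⟨by
    rintro ⟨_, a, ha, rfl⟩ ⟨_, b, hb, rfl⟩
    refine Subtype.ext ?_
    apply commutatorElement_eq_one_iff_mul_comm.1
    rw [← map_commutatorElement, hπ, QuotientGroup.mk'_apply, QuotientGroup.eq_one_iff]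
    rcases comm_mem hC hE hPT hEP hPE ha hb with h | h
    · rw [show ⁅a, b⁆ = 1 from Subtype.ext h]; exact one_mem _
    · rw [show ⁅a, b⁆ = t' from Subtype.ext h]; exact Subgroup.mem_zpowers _⟩⟩
  set A := (E.subgroupOf Γ).map π with hA
  have hAV : A ≤ Subgroup.normalizer (V : Set _) := by
    refine (Subgroup.map_mono (fun e he => ?_)).trans (Subgroup.le_normalizer_map π)
    rw [Subgroup.mem_normalizer_iff]
    intro y
    exact Subgroup.mem_normalizer_iff.1 (hEP he) y
  have hcop : (Nat.card A).Coprime (Nat.card V) := by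
    refine IsPGroup.coprime_card_of_ne p 2 hC.hp _ _ ?_ ?_
    · exact (hE.hE.isPGroup.of_equiv (Subgroup.subgroupOfEquivOfLe hEΓ).symm).map π
    · exact (((isPGroup_tof t).to_le hPT).of_equiv (Subgroup.subgroupOfEquivOfLe hPΓ).symm).map π
  have hmem : π ⟨u, hPΓ hu⟩ ∈ (V ⊓ Subgroup.centralizer (A : Set _)) ⊓ ⁅V, A⁆ := by
    have hin : π ⟨u, hPΓ hu⟩ ∈ V := ⟨⟨u, hPΓ hu⟩, hu, rfl⟩
    refine ⟨⟨hin, Subgroup.mem_centralizer_iff.2 ?_⟩, ?_⟩
    · rintro _ ⟨e, he, rfl⟩
      rw [← map_mul, ← map_mul]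
      exact congrArg π (Subtype.ext (hue e he).eq)
    · rw [hV, hA, ← Subgroup.map_commutator, hcomm]
      exact hin
  rw [CoprimeAct.centralizer_inf_commutator_eq_bot hAV hcop, Subgroup.mem_bot, hπ,
    QuotientGroup.mk'_apply, QuotientGroup.eq_one_iff, Subgroup.mem_zpowers_iff] at hmem
  obtain ⟨i, hi⟩ := hmem
  have hi' : u = t ^ i := by
    rw [show u = ((⟨u, hPΓ hu⟩ : ↥Γ) : G) from rfl, ← hi]; simp [t']
  rcases Int.even_or_odd i with ⟨j, rfl⟩ | ⟨j, rfl⟩
  · left; rw [hi', ← two_mul, zpow_mul, zpow_ofNat, sq, htt, one_zpow]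
  · right; rw [hi', zpow_add, zpow_mul, zpow_ofNat, sq, htt, one_zpow, one_mul, zpow_one]

end Moved

/-- `[C_T(H), E]`. -/
def Pof (t : G) (E H : Subgroup G) : Subgroup G :=
  ⁅Tof t ⊓ Subgroup.centralizer (H : Set G), E⁆

theorem IsPair.pof_facts (hC : Cfg p m G) (hE : IsPair p m t E) {H : Subgroup G} (hH : H ≤ E) :
    Pof t E H ≤ Tof t ∧ (∀ y ∈ Pof t E H, ∀ h ∈ H, Commute h y) ∧
      E ≤ Subgroup.normalizer (Pof t E H : Set G) ∧ ⁅Pof t E H, E⁆ = Pof t E H := by
  set K := Tof t ⊓ Subgroup.centralizer (H : Set G) with hK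
  have hEK : E ≤ Subgroup.normalizer (K : Set G) :=
    le_normalizer_inf_centralizer hE.le_normalizer fun a ha b hb => hE.hE.1 a ha b (hH hb)
  have hle : Pof t E H ≤ K := CoprimeAct.commutator_le_left hEK
  refine ⟨hle.trans inf_le_left, fun y hy h hh =>
      Subgroup.mem_centralizer_iff.1 (hle hy).2 h hh,
    Subgroup.normalizer_commutator_ge_right K E,
    CoprimeAct.commutator_commutator hEK ?_ (Or.inl (Group.isSolvable_of_comm fun a b =>
      Subtype.ext (hE.hE.1 a a.2 b b.2)))⟩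
  rw [hE.hcard]
  exact (coprime_card_tof hC.hp t inf_le_left).pow_left m

theorem pof_mono {H H' : Subgroup G} (h : H ≤ H') : Pof t E H' ≤ Pof t E H :=
  Subgroup.commutator_mono (inf_le_inf_left _ (Subgroup.centralizer_le h)) le_rfl

end Cfsg.Agent.KlingerMason
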