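/-
Groups of characteristic 2 and p type (Klinger-Mason): the contradiction.
-/
import Cfsg.Agent.Lib.CharTwoP.TwoGroup
import Cfsg.Agent.Lib.CharTwoP.Linear
import Cfsg.Agent.Lib.CharTwoP.Module

set_option autoImplicit false
set_option linter.unusedSectionVars false
set_option linter.unusedSimpArgs false
set_option linter.style.haveILetI false

namespace Cfsg.Agent.KlingerMason

open scoped commutatorElement

variable {G : Type*} [Group G] {p : ℕ}

/-- The number of elements of order dividing `p` centralised by `E` and inverted by `t`. -/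
noncomputable def phi (p : ℕ) (t : G) (E : Subgroup G) : ℕ :=
  Nat.card {g : G // g ^ p = 1 ∧ t * g * t⁻¹ = g⁻¹ ∧ ∀ e ∈ E, Commute e g}

theorem comm_rel {a b t : G} (h : ⁅a, b⁆ = t) : a * b = t * (b * a) := by
  rw [← h, commutatorElement_def]; group

theorem commute_of_sq {a e : G} (he : Odd (orderOf e)) (h : Commute (e * e) a) : Commute e a := by
  obtain ⟨k, hk⟩ := he
  have : e = (e * e) ^ (k + 1) := by
    rw [← sq, ← pow_mul, show 2 * (k + 1) = orderOf e + 1 by omega, pow_succ, pow_orderOf_eq_one,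
      one_mul]
  rw [this]
  exact h.pow_left _

variable [Finite G] [Fact p.Prime] {m : ℕ}

theorem odd_of_pow (hp : p ≠ 2) {g : G} (hg : g ^ p = 1) : Odd (orderOf g) := by
  by_cases h : g = 1
  · rw [h, orderOf_one]; exact odd_one
  · rw [orderOf_eq_prime hg h]; exact (Fact.out : p.Prime).odd_of_ne_two hp

theorem eq_one_of_inv_eq (hp : p ≠ 2) {g : G} (hg : g ^ p = 1) (h : g = g⁻¹) : g = 1 :=
  Subgroup.mem_bot.1 (mem_of_sq_mem (odd_of_pow hp hg)
    (Subgroup.mem_bot.2 (eq_inv_iff_mul_eq_one.1 h)))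

theorem commute_rof_tof (hp : p ≠ 2) {A : Subgroup G} {t n y : G} (ht : orderOf t = 2)
    (hta : t ∈ Subgroup.centralizer (A : Set G)) (hn : n ∈ Rof p A) (hnt : Commute t n)
    (hy : y ∈ Tof t) (hya : y ∈ Subgroup.centralizer (A : Set G)) : Commute y n := by
  haveI : Fact (Nat.Prime 2) := ⟨Nat.prime_two⟩
  set H := Rof p A ⊓ Subgroup.centralizer ({t} : Set G)
  set K := Tof t ⊓ Subgroup.centralizer (A : Set G)
  have hc : ∀ {x : G}, x ∈ Subgroup.centralizer ({t} : Set G) → Commute x t :=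
    fun hx => Subgroup.mem_centralizer_singleton_iff.1 hx
  have hHK : H ≤ Subgroup.normalizer (K : Set G) := fun x hx =>
    Subgroup.inf_normalizer_le_normalizer_inf (Subgroup.mem_inf.2
      ⟨mem_normalizer_tof ht (hc hx.2), Subgroup.le_normalizer (rof_le A hx.1)⟩)
  have hKH : K ≤ Subgroup.normalizer (H : Set G) := fun x hx =>
    Subgroup.inf_normalizer_le_normalizer_inf (Subgroup.mem_inf.2
      ⟨normalizer_le_rof A (Subgroup.centralizer_le_normalizer _ hx.2),
        Subgroup.le_normalizer (Subgroup.mem_centralizer_singleton_iff.2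
          (commute_of_mem_tof ht hx.1).eq)⟩)
  have hco : (Nat.card H).Coprime (Nat.card K) :=
    IsPGroup.coprime_card_of_ne p 2 hp _ _ ((isPGroup_rof A).to_le inf_le_left)
      ((isPGroup_tof t).to_le inf_le_left)
  exact (AxB.commute_of_coprime hHK hKH hco
    (show n ∈ H from ⟨hn, Subgroup.mem_centralizer_singleton_iff.2 hnt.symm.eq⟩)
    (show y ∈ K from ⟨hy, hya⟩)).symm

variable {A : Subgroup G} {t s σ : G}

theorem Loc.not_mem (hl : Loc p A t s σ) {v : ↥(Vt hl)} (hv : v ≠ 0) : Vt.val v ∉ A := by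
  intro hm
  apply hv
  apply Vt.val_injective
  rw [Vt.val_zero]
  refine eq_one_of_inv_eq hl.hp (hl.pow_eq_one (Vt.val_mem v)) ?_
  have h1 : Vt.val v * t = t * Vt.val v := Subgroup.mem_centralizer_iff.1 hl.hta _ hm
  rw [← Vt.inverted v, ← h1, mul_inv_cancel_right]

theorem Loc.commute_of_opposite (hl : Loc p A t s σ) {x g z : G} (hx : x ∈ Mof p A t)
    (hg : g ∈ Mof p A t) (hz : z ∈ Subgroup.centralizer (A : Set G)) (hzx : z * x * z⁻¹ = x)
    (hzg : z * g * z⁻¹ = g⁻¹) : Commute x g := by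
  have hc := hl.comm_mem hx hg
  have h1 : ⁅x, g⁆ = ⁅x, g⁆⁻¹ := by
    calc ⁅x, g⁆ = z * ⁅x, g⁆ * z⁻¹ := by
          rw [← Subgroup.mem_centralizer_iff.1 hz _ hc, mul_inv_cancel_right]
      _ = ⁅x, g⁻¹⁆ := by rw [conj_commutatorElement, hzx, hzg]
      _ = ⁅x, g⁆⁻¹ := by
          rw [← commutatorElement_inv g⁻¹ x, hl.comm_inv_left hg hx, commutatorElement_inv,
            ← commutatorElement_inv g x]
  exact commutatorElement_eq_one_iff_mul_comm.1 (eq_one_of_inv_eq hl.hp (hl.hA.2 _ hc) h1)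

theorem vop_fix (hl : Loc p A t s σ) {a : G} {ha : a ∈ Subgroup.centralizer (A : Set G)}
    {hat : Commute a t} {v : ↥(Vt hl)} (h : vop hl a ha hat v = v) : Commute a (Vt.val v) := by
  have h1 := congrArg Vt.val h
  rw [vop_val] at h1
  exact mul_inv_eq_iff_eq_mul.1 h1

theorem vop_flip (hl : Loc p A t s σ) {a : G} {ha : a ∈ Subgroup.centralizer (A : Set G)}
    {hat : Commute a t} {v : ↥(Vt hl)} (h : vop hl a ha hat v = -v) :
    a * Vt.val v * a⁻¹ = (Vt.val v)⁻¹ := by
  have h1 := congrArg Vt.val h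
  rwa [vop_val, Vt.val_neg] at h1

theorem Loc.exists_ne_zero (hl : Loc p A t s σ) : ∃ v : ↥(Vt hl), v ≠ 0 := by
  obtain ⟨-, v, hv, hv1, hvi⟩ := hl.inverted_mem (one_mem (Subgroup.centralizer (A : Set G)))
    (one_pow p) (by group)
  exact ⟨Vt.mk hl v hv hvi, fun h => hv1 (by simpa using congrArg Vt.val h)⟩

theorem phi_le (hl : Loc p A t s σ) {E : Subgroup G} (hAE : A ≤ E) (Q : ↥(Vt hl) → Prop)
    (hQ : ∀ v : ↥(Vt hl), (∀ e ∈ E, Commute e (Vt.val v)) → Q v) :
    phi p t E ≤ Nat.card {v // Q v} := by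
  have hmem : ∀ g : {g : G // g ^ p = 1 ∧ t * g * t⁻¹ = g⁻¹ ∧ ∀ e ∈ E, Commute e g},
      (g : G) ∈ Mof p A t := fun g => (hl.inverted_mem
        (Subgroup.mem_centralizer_iff.2 fun a ha => (g.2.2.2 a (hAE ha)).eq) g.2.1 g.2.2.1).1
  refine Nat.card_le_card_of_injective
    (fun g => (⟨Vt.mk hl g (hmem g) g.2.2.1, hQ _ (by simpa using g.2.2.2)⟩ : {v // Q v})) ?_
  intro a b h
  exact Subtype.ext (congrArg (fun v : {v // Q v} => Vt.val v.1) h)

theorem le_phi (hl : Loc p A t s σ) {z : G} {hza : z ∈ Subgroup.centralizer (A : Set G)}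
    {hzt : Commute z t} {E' : Subgroup G}
    (h : ∀ g ∈ Mof p A t, z * g * z⁻¹ = g⁻¹ → ∀ e ∈ E', Commute e g) :
    Nat.card {v : ↥(Vt hl) // vop hl z hza hzt v = -v} ≤ phi p z E' := by
  refine Nat.card_le_card_of_injective (fun v => (⟨Vt.val v.1, hl.pow_eq_one (Vt.val_mem v.1),
    vop_flip hl v.2, h _ (Vt.val_mem v.1) (vop_flip hl v.2)⟩ :
      {g : G // g ^ p = 1 ∧ z * g * z⁻¹ = g⁻¹ ∧ ∀ e ∈ E', Commute e g})) ?_
  intro a b hab
  exact Subtype.ext (Vt.val_injective (congrArg Subtype.val hab :))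

variable {E : Subgroup G}

theorem IsPair.ne_bot_of_card (_hC : Cfg p m G) {B : Subgroup G} {k : ℕ} (hk : 1 ≤ k)
    (hB : Nat.card B = p ^ k) : B ≠ ⊥ := fun h => by
  rw [h, Subgroup.card_bot] at hB
  have := Nat.one_lt_pow (by omega : k ≠ 0) (Fact.out : p.Prime).one_lt
  omega

theorem IsPair.eq_one_of_centralizes (hC : Cfg p m G) (hE : IsPair p m t E) {e : G} (he : e ∈ E)
    (h : ∀ y ∈ Tof t, Commute e y) : e = 1 := by
  haveI : Fact (Nat.Prime 2) := ⟨Nat.prime_two⟩
  have hm := mem_tof_of_centralizes hC.h2 hE.ht (hE.hc e he) h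
  obtain ⟨k, hk⟩ := IsPGroup.iff_orderOf.1 (isPGroup_tof t) ⟨e, hm⟩
  rw [Subgroup.orderOf_mk] at hk
  have hd : orderOf e ∣ p := orderOf_dvd_of_pow_eq_one (hE.hE.2 e he)
  rw [← orderOf_eq_one_iff]
  exact Nat.Coprime.eq_one_of_dvd (hk ▸ (coprime_two hC.hp).pow_left k) hd

/-- `C_T(H)` is centralised by `E` when `[C_T(H), E] = 1`. -/
theorem commute_of_pof_eq_bot {H : Subgroup G} (h : Pof t E H = ⊥) {y e : G}
    (hy : y ∈ Tof t ⊓ Subgroup.centralizer (H : Set G)) (he : e ∈ E) : Commute y e :=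
  commutatorElement_eq_one_iff_mul_comm.1 (Subgroup.mem_bot.1
    (h ▸ (Subgroup.commutator_mem_commutator hy he : ⁅y, e⁆ ∈ Pof t E H)))

theorem eq_sup_zpowers (hE : IsEl p E) {B : Subgroup G} (hB : B ≤ E)
    (hcard : Nat.card B * p = Nat.card E) {e : G} (he : e ∈ E) (heB : e ∉ B) :
    B ⊔ Subgroup.zpowers e = E := by
  refine Subgroup.eq_of_le_of_card_ge (sup_le hB (Subgroup.zpowers_le.2 he)) ?_
  rw [card_sup_zpowers (hE.2 e he) heB (fun b hb => hE.1 b (hB hb) e he), hcard]

theorem commute_all (hE : IsEl p E) {B : Subgroup G} (hB : B ≤ E)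
    (hcard : Nat.card B * p = Nat.card E) {e y : G} (he : e ∈ E) (heB : e ∉ B)
    (hBy : ∀ b ∈ B, Commute b y) (hey : Commute e y) : ∀ f ∈ E, Commute f y := by
  intro f hf
  rw [← eq_sup_zpowers hE hB hcard he heB] at hf
  obtain ⟨b, hb, i, rfl⟩ := mem_sup_zpowers (fun b hb => hE.1 b (hB hb) e he) hf
  exact (hBy b hb).mul_left (hey.zpow_left i)

/-- The case of an involution in some `[C_T(B), E]`. -/
theorem case_inv (hC : Cfg p m G) (hE : IsPair p m t E)
    (hmax : ∀ (s : G) (E' : Subgroup G), IsPair p m s E' → phi p s E' ≤ phi p t E) {B : Subgroup G} (hBE : B ≤ E)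
    (hB : Nat.card B * p = Nat.card E) (hs : s ∈ Pof t E B) (hs2 : s * s = 1) (hs1 : s ≠ 1)
    (hst : s ≠ t) : False := by
  haveI : Fact (Nat.Prime 2) := ⟨Nat.prime_two⟩
  have hp1 := (Fact.out : p.Prime)
  have hm := hC.hm
  obtain ⟨hPT, hPB, hEP, hPE⟩ := hE.pof_facts hC hBE
  have htt : t * t = 1 := by rw [← sq, ← hE.ht, pow_orderOf_eq_one]
  obtain ⟨e, he, hes⟩ : ∃ e ∈ E, ¬ Commute e s := by
    by_contra h
    push Not at h
    rcases fixed_mem hC hE hPT hEP hPE hs h with h | h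
    exacts [hs1 h, hst h]
  have heB : e ∉ B := fun h => hes (hPB s hs e h)
  have het : Commute e t := hE.hc e he
  have htP : ∀ y ∈ Pof t E B, Commute y t := fun y hy => commute_of_mem_tof hE.ht (hPT hy)
  let sk : ℕ → G := fun k => e ^ k * s * (e ^ k)⁻¹
  have sk0 : sk 0 = s := by simp [sk]
  have sksucc : ∀ k, sk (k + 1) = e * sk k * e⁻¹ := fun k => by simp only [sk]; rw [pow_succ']; group
  have skP : ∀ k, sk k ∈ Pof t E B := fun k =>
    (Subgroup.mem_normalizer_iff.1 (hEP (pow_mem he k)) s).1 hs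
  have sk2 : ∀ k, sk k * sk k = 1 := fun k => by
    simp only [sk]; rw [conj_mul, hs2, mul_one, mul_inv_cancel]
  have skne : ∀ k, sk k ≠ 1 := fun k h => hs1 (by
    have h' : e ^ k * s * (e ^ k)⁻¹ = 1 := h
    rwa [mul_inv_eq_one, mul_eq_left] at h')
  have hrel : ∀ i j, i < j → j < p → ⁅sk i, sk j⁆ = t := by
    intro i j hij hjp
    rcases comm_mem hC hE hPT hEP hPE (skP i) (skP j) with h | h
    · exfalso
      obtain ⟨d, rfl⟩ : ∃ d, j = d + i := ⟨j - i, by omega⟩
      have hd : e ^ d * sk i * (e ^ d)⁻¹ = sk (d + i) := by simp only [sk]; rw [pow_add]; group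
      have hfix := hE.inv_fix hC hBE hB (pow_mem he d) (hPT (skP i)) (hPB _ (skP i)) (sk2 i)
        (by rw [hd]; exact commutatorElement_eq_one_iff_mul_comm.1 h)
      have h1 : Commute (e ^ d) (sk i) := mul_inv_eq_iff_eq_mul.1 hfix
      have h2 : Commute (e ^ d) s := by
        have h3 := ((Commute.pow_pow_self e d i).inv_right.mul_right h1).mul_right
          (Commute.pow_pow_self e d i)
        have h4 : (e ^ i)⁻¹ * sk i * e ^ i = s := by simp only [sk]; group
        rwa [h4] at h3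
      obtain ⟨u, hu⟩ : ∃ u : ℕ, (e ^ d) ^ u = e := by
        have hne : e ≠ 1 := fun h => hes (h ▸ Commute.one_left s)
        have : (orderOf e).Coprime d := by
          rw [orderOf_eq_prime (hE.hE.2 e he) hne]
          exact (Nat.Prime.coprime_iff_not_dvd hp1).2
            (fun hdvd => by have := Nat.le_of_dvd (by omega) hdvd; omega)
        exact exists_pow_eq_self_of_coprime this.symm
      exact hes (hu ▸ h2.pow_left u)
    · exact h
  have hrel' : ∀ i j, i ≠ j → i < p → j < p → sk i * sk j = t * (sk j * sk i) := by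
    intro i j hne hi hj
    rcases lt_or_gt_of_ne hne with h | h
    · exact comm_rel (hrel i j h hj)
    · refine comm_rel ?_
      rw [← commutatorElement_inv, hrel j i h hi, inv_eq_of_mul_eq_one_right htt]
  have hp3 : p ≠ 3 := by
    intro hp3
    have r01 := hrel' 0 1 (by omega) (by omega) (by omega)
    have r02 := hrel' 0 2 (by omega) (by omega) (by omega)
    have r12 := hrel' 1 2 (by omega) (by omega) (by omega)
    have c1 : Commute (sk 1) t := htP _ (skP 1)
    have c0 : Commute (sk 0) t := htP _ (skP 0)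
    have hcyc : sk 0 * sk 1 * sk 2 = sk 1 * sk 2 * sk 0 := by
      calc sk 0 * sk 1 * sk 2 = t * sk 1 * (sk 0 * sk 2) := by rw [r01]; group
        _ = t * sk 1 * (t * (sk 2 * sk 0)) := by rw [r02]
        _ = (t * t) * (sk 1 * sk 2 * sk 0) := by
            rw [mul_assoc t, ← mul_assoc (sk 1) t, c1.eq]; group
        _ = _ := by rw [htt, one_mul]
    set u := sk 0 * sk 1 * sk 2 with hu
    have h3 : sk 3 = sk 0 := by
      simp only [sk]
      rw [show e ^ 3 = 1 from hp3 ▸ hE.hE.2 e he]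
      simp
    have hue : Commute e u := by
      refine mul_inv_eq_iff_eq_mul.1 ?_
      calc e * u * e⁻¹ = sk 1 * sk 2 * sk 3 := by rw [hu, sksucc 2, sksucc 1, sksucc 0]; group
        _ = u := by rw [h3, hcyc]
    have huP : u ∈ Pof t E B := mul_mem (mul_mem (skP 0) (skP 1)) (skP 2)
    have huu : u * u = t := by
      calc u * u = (sk 0 * sk 1 * sk 2) * (sk 1 * sk 2 * sk 0) := by rw [← hcyc]
        _ = sk 0 * (sk 1 * sk 2) * (sk 1 * sk 2) * sk 0 := by group
        _ = sk 0 * t * (sk 2 * (sk 1 * sk 1) * sk 2) * sk 0 := by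
            conv_lhs => enter [1, 1, 2]; rw [r12]
            group
        _ = t * (sk 0 * sk 0) := by rw [sk2 1, mul_one, sk2 2, mul_one, c0.eq, mul_assoc]
        _ = t := by rw [sk2 0, mul_one]
    have ht1 : t ≠ 1 := fun h => by have := hE.ht; rw [h, orderOf_one] at this; omega
    rcases fixed_mem hC hE hPT hEP hPE huP
      (commute_all hE.hE hBE hB he heB (fun b hb => hPB u huP b hb) hue) with h | h
    · rw [h, mul_one] at huu; exact ht1 huu.symm
    · rw [h, htt] at huu; exact ht1 huu.symm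
  have hp5 : 5 ≤ p := by
    have h2 := hp1.two_le
    have h2' := hC.hp
    rcases Nat.lt_or_ge p 5 with h | h
    · interval_cases p <;> simp_all (config := { decide := true })
    · exact h
  have hBcard := hE.card_hyper hC hB
  have hso : orderOf s = 2 := orderOf_eq_prime (by rw [sq]; exact hs2) hs1
  have hska : ∀ k, sk k ∈ Subgroup.centralizer (B : Set G) := fun k =>
    Subgroup.mem_centralizer_iff.2 fun b hb => (hPB _ (skP k) b hb).eq
  have hta : t ∈ Subgroup.centralizer (B : Set G) :=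
    Subgroup.mem_centralizer_iff.2 fun b hb => (hE.hc b (hBE hb)).eq
  have hsa : s ∈ Subgroup.centralizer (B : Set G) := sk0 ▸ hska 0
  have hfix : ∀ n ∈ Rof p B, Commute t n → Commute s n ∧ Commute (sk 1) n := fun n hn hnt =>
    ⟨commute_rof_tof hC.hp hE.ht hta hn hnt (hPT hs) hsa,
      commute_rof_tof hC.hp hE.ht hta hn hnt (hPT (skP 1)) (hska 1)⟩
  have hl : Loc p B t s (sk 1) :=
    { hp := hC.hp
      hP := hC.hP
      hA := hE.hE.mono hBE
      hA1 := IsPair.ne_bot_of_card hC (by omega) hBcard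
      ht := hE.ht
      hs := hso
      hts := (htP s hs).symm
      hne := fun h => hst h.symm
      hσt := by rw [(htP _ (skP 1)).eq, mul_inv_cancel_right]
      hσs := by
        have h := hrel' 1 0 (by omega) (by omega) (by omega)
        rw [sk0] at h
        rw [h, (htP s hs).eq]
        group
      hta := hta
      hsa := hsa
      hσa := hska 1
      hfix := hfix
      hΩ := fun n hn hnp hnt => by
        by_contra hnB
        have hcn : ∀ b ∈ B, Commute b n := fun b hb => commute_of_mem_rof hn hb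
        refine hst (no_klein hC.hp hC.hP (by omega) hC.bnd
          ((hE.hE.mono hBE).sup_zpowers hnp hcn) ?_ hso hE.ht (htP s hs)
          (mem_centralizer_sup_zpowers hsa (hfix n hn hnt).1) (mem_centralizer_sup_zpowers hta hnt))
        rw [card_sup_zpowers hnp hnB hcn, hBcard, ← pow_succ]
        congr 1
        omega }
  have hea : e ∈ Subgroup.centralizer (B : Set G) :=
    Subgroup.mem_centralizer_iff.2 fun b hb => (hE.hE.1 b (hBE hb) e he).eq
  let S : ℕ → ↥(Vt hl) →+ ↥(Vt hl) := fun k => vop hl (sk k) (hska k) (htP _ (skP k))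
  set F := vop hl e hea het with hF
  have hlt := card_fixed_four S F (fun k _ v => vop_sq_one hl _ _ (sk2 k) v)
    (fun i hi j hj hij v => vop_anticomm hl _ _ _ _ (hrel' i j hij (by omega) (by omega)) v)
    (fun k _ v => Vt.val_injective (by
      simp only [S, hF, vop_val]
      rw [sksucc k]
      group))
    (vt_two_torsion hl) hl.exists_ne_zero
  obtain ⟨-, hfixcard⟩ := card_eigen (S 0) (S 1) (vop_sq_one hl _ _ (sk2 0))
    (fun a b h => by
      rw [← vop_sq_one hl (hska 1) (htP _ (skP 1)) (sk2 1) a,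
        ← vop_sq_one hl (hska 1) (htP _ (skP 1)) (sk2 1) b]
      exact congrArg (S 1) h)
    (fun v => vop_anticomm hl _ _ _ _ (hrel' 0 1 (by omega) (by omega) (by omega)) v)
    (vt_two_torsion hl)
  obtain ⟨v, hv, hv0⟩ : ∃ v, S 0 v = v ∧ v ≠ 0 := by
    by_contra h
    push Not at h
    have h1 : Nat.card {v // S 0 v = v} ≤ 1 := Finite.card_le_one_iff_subsingleton.2
      ⟨fun a b => Subtype.ext ((h a.1 a.2).trans (h b.1 b.2).symm)⟩
    have h2 : 0 < Nat.card {v // F v = v} := by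
      haveI : Nonempty {v // F v = v} := ⟨⟨0, map_zero F⟩⟩
      exact Nat.card_pos
    omega
  set x := Vt.val v with hx
  have hxM : x ∈ Mof p B t := Vt.val_mem v
  have hsx : Commute s x := sk0 ▸ vop_fix hl hv
  have hcx : ∀ b ∈ B, Commute b x := fun b hb => commute_of_mem_rof (mof_le_rof B t hxM) hb
  have hpair : IsPair p m s (B ⊔ Subgroup.zpowers x) :=
    { ht := hso
      hE := (hE.hE.mono hBE).sup_zpowers (hl.pow_eq_one hxM) hcx
      hcard := by
        rw [card_sup_zpowers (hl.pow_eq_one hxM) (hl.not_mem hv0) hcx, hBcard, ← pow_succ]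
        congr 1
        omega
      hc := fun g hg => Subgroup.mem_centralizer_iff.1 (mem_centralizer_sup_zpowers hsa hsx) g hg }
  have hup : phi p t E ≤ Nat.card {v // F v = v} := phi_le hl hBE _ fun w hw =>
    Vt.val_injective (by rw [hF, vop_val, (hw e he).eq, mul_inv_cancel_right])
  have hlow : Nat.card {v // S 0 v = -v} ≤ phi p (sk 0) (B ⊔ Subgroup.zpowers x) :=
    le_phi hl fun g hg hgi f hf => Subgroup.mem_centralizer_iff.1
      (mem_centralizer_sup_zpowers (u := g) (rof_le B (mof_le_rof B t hg))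
        (hl.commute_of_opposite hxM hg (hska 0)
          (by rw [sk0, hsx.eq, mul_inv_cancel_right]) hgi).symm) f hf
  have := hmax s _ hpair
  rw [sk0] at hlow
  omega

/-- An element of `[C_T(B), E]` moved by `e` and the relation with its image. -/
theorem exists_quaternion (hC : Cfg p m G) (hE : IsPair p m t E)
    (hno : ∀ B, B ≤ E → Nat.card B * p = Nat.card E → ∀ z ∈ Pof t E B, z * z = 1 → z = 1 ∨ z = t)
    {B : Subgroup G} (hBE : B ≤ E) (hB : Nat.card B * p = Nat.card E) (hne : Pof t E B ≠ ⊥)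
    {e : G} (he : e ∈ E) (heB : e ∉ B) :
    ∃ i ∈ Pof t E B, ¬ Commute e i ∧ e * i * e⁻¹ ∈ Pof t E B ∧ i * i = t ∧
      (e * i * e⁻¹) * (e * i * e⁻¹) = t ∧ i * (e * i * e⁻¹) = t * (e * i * e⁻¹ * i) := by
  obtain ⟨hPT, hPB, hEP, hPE⟩ := hE.pof_facts hC hBE
  have htt : t * t = 1 := by rw [← sq, ← hE.ht, pow_orderOf_eq_one]
  have hti : t⁻¹ = t := inv_eq_of_mul_eq_one_right htt
  have het : Commute e t := hE.hc e he
  obtain ⟨i, hi, hie⟩ : ∃ i ∈ Pof t E B, ¬ Commute e i := by
    by_contra h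
    push Not at h
    apply hne
    rw [← hPE, Subgroup.eq_bot_iff_forall]
    have : ⁅Pof t E B, E⁆ ≤ (⊥ : Subgroup G) := Subgroup.commutator_le.2 fun y hy f hf =>
      Subgroup.mem_bot.2 (commutatorElement_eq_one_iff_mul_comm.2
        (commute_all hE.hE hBE hB he heB (fun b hb => hPB y hy b hb) (h y hy) f hf).symm.eq)
    exact fun y hy => Subgroup.mem_bot.1 (this hy)
  have hii : i * i = t := (sq_mem hC hE hPT hEP hPE hi).resolve_left fun h => hie (by
    rcases hno B hBE hB i hi h with h | h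
    · rw [h]; exact Commute.one_right e
    · rw [h]; exact het)
  set j := e * i * e⁻¹ with hj
  have hjP : j ∈ Pof t E B := (Subgroup.mem_normalizer_iff.1 (hEP he) i).1 hi
  have hjj : j * j = t := by rw [hj, conj_mul, hii, het.eq, mul_inv_cancel_right]
  refine ⟨i, hi, hie, hjP, hii, hjj, comm_rel ((comm_mem hC hE hPT hEP hPE hi hjP).resolve_left ?_)⟩
  intro h
  have hc : Commute i j := commutatorElement_eq_one_iff_mul_comm.1 h
  have h1 : i * j⁻¹ * (i * j⁻¹) = 1 := by
    rw [hc.inv_right.symm.mul_mul_mul_comm, hii, ← mul_inv_rev, hjj, mul_inv_cancel]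
  rcases hno B hBE hB _ (mul_mem hi (inv_mem hjP)) h1 with h2 | h2
  · exact hie (mul_inv_eq_iff_eq_mul.1 ((mul_inv_eq_one.1 h2).symm.trans rfl))
  · refine hie (commute_of_sq (odd_of_pow hC.hp (hE.hE.2 e he)) ?_)
    have h3 : j = t * i := by
      rw [mul_inv_eq_iff_eq_mul] at h2
      rw [h2, ← mul_assoc, htt, one_mul]
    refine mul_inv_eq_iff_eq_mul.1 ?_
    calc e * e * i * (e * e)⁻¹ = e * j * e⁻¹ := by rw [hj]; group
      _ = (e * t * e⁻¹) * (e * i * e⁻¹) := by rw [h3]; group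
      _ = t * j := by rw [het.eq, mul_inv_cancel_right]
      _ = i := by rw [h3, ← mul_assoc, htt, one_mul]

/-- The case without involutions in the `[C_T(B), E]`. -/
theorem case_quaternion (hC : Cfg p m G) (hE : IsPair p m t E)
    (hmax : ∀ (s : G) (E' : Subgroup G), IsPair p m s E' → phi p s E' ≤ phi p t E)
    (hno : ∀ B, B ≤ E → Nat.card B * p = Nat.card E → ∀ z ∈ Pof t E B, z * z = 1 → z = 1 ∨ z = t)
    {B1 B2 : Subgroup G} (hB1E : B1 ≤ E) (hB2E : B2 ≤ E)
    (hB1 : Nat.card B1 * p = Nat.card E) (hB2 : Nat.card B2 * p = Nat.card E) (hne : B1 ≠ B2)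
    (hP1 : Pof t E B1 ≠ ⊥) (hP2 : Pof t E B2 ≠ ⊥) : False := by
  haveI : Fact (Nat.Prime 2) := ⟨Nat.prime_two⟩
  have hm := hC.hm
  have hc1 := hE.card_hyper hC hB1
  have hc2 := hE.card_hyper hC hB2
  obtain ⟨e1, he1', he11⟩ : ∃ x ∈ B2, x ∉ B1 := by
    by_contra h
    push Not at h
    exact hne (Subgroup.eq_of_le_of_card_ge h (by rw [hc1, hc2])).symm
  obtain ⟨e2, he2', he22⟩ : ∃ x ∈ B1, x ∉ B2 := by
    by_contra h
    push Not at h
    exact hne (Subgroup.eq_of_le_of_card_ge h (by rw [hc1, hc2]))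
  have he1 := hB2E he1'
  have he2 := hB1E he2'
  have he1t := hE.hc e1 he1
  have he2t := hE.hc e2 he2
  set D := B1 ⊓ B2 with hD
  have hDE : D ≤ E := inf_le_left.trans hB1E
  have he1D : e1 ∉ D := fun h => he11 h.1
  have hDcard : Nat.card D = p ^ (m - 2) := by
    have hsup : D ⊔ Subgroup.zpowers e1 = B2 := by
      refine le_antisymm (sup_le inf_le_right (Subgroup.zpowers_le.2 he1')) fun b hb => ?_
      obtain ⟨a, ha, n, rfl⟩ := mem_sup_zpowers (fun b hb => hE.hE.1 b (hB1E hb) e1 he1)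
        ((eq_sup_zpowers hE.hE hB1E hB1 he1 he11).symm ▸ hB2E hb)
      refine mul_mem (Subgroup.mem_sup_left ⟨ha, ?_⟩)
        (Subgroup.mem_sup_right (Subgroup.zpow_mem_zpowers _ _))
      have := mul_mem hb (inv_mem (zpow_mem he1' n))
      rwa [mul_inv_cancel_right] at this
    have h := card_sup_zpowers (hE.hE.2 e1 he1) he1D (fun b hb => hE.hE.1 b (hDE hb) e1 he1)
    rw [hsup, hc2] at h
    refine Nat.eq_of_mul_eq_mul_right (Fact.out : p.Prime).pos ?_
    rw [← h, ← pow_succ]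
    congr 1
    omega
  obtain ⟨hPT, hPD, hEP, hPE⟩ := hE.pof_facts hC hDE
  obtain ⟨h1T, h1B, h1E, h1PE⟩ := hE.pof_facts hC hB1E
  obtain ⟨h2T, h2B, -, -⟩ := hE.pof_facts hC hB2E
  have h1D : Pof t E B1 ≤ Pof t E D := pof_mono inf_le_left
  have h2D : Pof t E B2 ≤ Pof t E D := pof_mono inf_le_right
  -- the two commutator groups commute
  have hcomm : ∀ a ∈ Pof t E B1, ∀ b ∈ Pof t E B2, Commute a b := by
    intro a ha b hb
    have hle : Pof t E B1 ≤ Subgroup.centralizer ({b} : Set G) := by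
      rw [← h1PE, Subgroup.commutator_le]
      intro w hw f hf
      rw [Subgroup.mem_centralizer_singleton_iff]
      set w' := f * w * f⁻¹ with hw'
      have hw'P : w' ∈ Pof t E B1 := (Subgroup.mem_normalizer_iff.1 (h1E hf) w).1 hw
      have hsame : ⁅w', b⁆ = ⁅w, b⁆ := by
        obtain ⟨c, hc, n, rfl⟩ := mem_sup_zpowers (fun b hb => hE.hE.1 b (hB1E hb) e1 he1)
          ((eq_sup_zpowers hE.hE hB1E hB1 he1 he11).symm ▸ hf)
        have hcw : Commute c w := h1B w hw c hc
        have hce : Commute c e1 := hE.hE.1 c (hB1E hc) e1 he1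
        have heb : Commute (e1 ^ n) b := (h2B b hb e1 he1').zpow_left n
        have e0 : w' = e1 ^ n * w * (e1 ^ n)⁻¹ := by
          have h := ((hce.zpow_right n).mul_right hcw).mul_right (hce.zpow_right n).inv_right
          calc w' = c * (e1 ^ n * w * (e1 ^ n)⁻¹) * c⁻¹ := by rw [hw']; group
            _ = _ := by rw [h.eq, mul_inv_cancel_right]
        calc ⁅w', b⁆ = e1 ^ n * ⁅w, b⁆ * (e1 ^ n)⁻¹ := by
              rw [conj_commutatorElement, ← e0, heb.eq, mul_inv_cancel_right]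
          _ = ⁅w, b⁆ := by
              rw [(comm_fixed hC hE hPT hEP hPE (h1D hw) (h2D hb) _ (E.zpow_mem he1 n)).eq,
                mul_inv_cancel_right]
      have hq : ⁅w, f⁆ = w * w'⁻¹ := by rw [hw', commutatorElement_def]; group
      apply commutatorElement_eq_one_iff_mul_comm.1
      rw [hq]
      have h := comm_mul_left hC hE hPT hEP hPE (mul_mem (h1D hw) (inv_mem (h1D hw'P)))
        (h1D hw'P) (h2D hb)
      rw [inv_mul_cancel_right, hsame] at h
      exact mul_eq_right.1 h.symm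
    exact Subgroup.mem_centralizer_singleton_iff.1 (hle ha)
  obtain ⟨i, hi, hie, hj, hii, hjj, hij⟩ := exists_quaternion hC hE hno hB1E hB1 hP1 he1 he11
  obtain ⟨k, hk, hke, hl', hkk, hll, hkl⟩ := exists_quaternion hC hE hno hB2E hB2 hP2 he2 he22
  set j := e1 * i * e1⁻¹ with hjdef
  set l := e2 * k * e2⁻¹ with hldef
  have htt : t * t = 1 := by rw [← sq, ← hE.ht, pow_orderOf_eq_one]
  have hti : t⁻¹ = t := inv_eq_of_mul_eq_one_right htt
  have ht1 : t ≠ 1 := fun h => by have := hE.ht; rw [h, orderOf_one] at this; omega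
  have htc : ∀ y ∈ Pof t E D, Commute y t := fun y hy => commute_of_mem_tof hE.ht (hPT hy)
  have hit := htc i (h1D hi)
  have hjt := htc j (h1D hj)
  have hkt := htc k (h2D hk)
  have hlt' := htc l (h2D hl')
  have cik := hcomm i hi k hk
  have cil := hcomm i hi l hl'
  have cjk := hcomm j hj k hk
  have cjl := hcomm j hj l hl'
  set s := i * k with hsdef
  set u := j * l with hudef
  have hsP : s ∈ Pof t E D := mul_mem (h1D hi) (h2D hk)
  have huP : u ∈ Pof t E D := mul_mem (h1D hj) (h2D hl')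
  have hst := htc s hsP
  have hut := htc u huP
  have hss : s * s = 1 := by rw [hsdef, cik.symm.mul_mul_mul_comm, hii, hkk, htt]
  have huu : u * u = 1 := by rw [hudef, cjl.symm.mul_mul_mul_comm, hjj, hll, htt]
  have hji : j * i * j⁻¹ = t * i := by
    calc j * i * j⁻¹ = t⁻¹ * (t * (j * i)) * j⁻¹ := by group
      _ = t * i := by rw [← hij, hti]; group
  have hσs : j * s * j⁻¹ = s * t := by
    calc j * s * j⁻¹ = (j * i * j⁻¹) * (j * k * j⁻¹) := by rw [hsdef]; group
      _ = t * (i * k) := by rw [hji, cjk.eq, mul_inv_cancel_right, mul_assoc]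
      _ = s * t := hst.symm.eq
  have hju : Commute j u := (Commute.refl j).mul_right cjl
  have his : Commute i s := (Commute.refl i).mul_right cik
  have hiu : i * u * i⁻¹ = u * t := by
    calc i * u * i⁻¹ = (i * j * i⁻¹) * (i * l * i⁻¹) := by rw [hudef]; group
      _ = t * u := by rw [hij, cil.eq, mul_inv_cancel_right, hudef]; group
      _ = u * t := hut.symm.eq
  have hmoves : ∀ {a z : G}, a * z * a⁻¹ = z * t → ∀ w, Commute a w → z ≠ w := by
    intro a z h w hw hzw
    subst hzw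
    rw [hw.eq, mul_inv_cancel_right, eq_comm, mul_eq_left] at h
    exact ht1 h
  have hs1 : s ≠ 1 := hmoves hσs 1 (Commute.one_right j)
  have hsnt : s ≠ t := hmoves hσs t hjt
  have hu1 : u ≠ 1 := hmoves hiu 1 (Commute.one_right i)
  have hunt : u ≠ t := hmoves hiu t hit
  have hus : u ≠ s := hmoves hiu s his
  have huts : u ≠ t * s := hmoves hiu (t * s) (hit.mul_right his)
  have hsu : Commute s u := by
    show i * k * (j * l) = j * l * (i * k)
    calc i * k * (j * l) = (i * j) * (k * l) := cjk.symm.mul_mul_mul_comm _ _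
      _ = t * (j * i) * (t * (l * k)) := by rw [hij, hkl]
      _ = (t * t) * ((j * i) * (l * k)) :=
          ((htc _ (mul_mem (h1D hj) (h1D hi)))).mul_mul_mul_comm _ _
      _ = j * l * (i * k) := by rw [htt, one_mul, cil.mul_mul_mul_comm]
  have hso : orderOf s = 2 := orderOf_eq_prime (by rw [sq]; exact hss) hs1
  have huo : orderOf u = 2 := orderOf_eq_prime (by rw [sq]; exact huu) hu1
  have hPa : ∀ y ∈ Pof t E D, y ∈ Subgroup.centralizer (D : Set G) := fun y hy =>
    Subgroup.mem_centralizer_iff.2 fun b hb => (hPD y hy b hb).eq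
  have hta : t ∈ Subgroup.centralizer (D : Set G) :=
    Subgroup.mem_centralizer_iff.2 fun b hb => (hE.hc b (hDE hb)).eq
  have hfix : ∀ y ∈ Pof t E D, ∀ n ∈ Rof p D, Commute t n → Commute y n :=
    fun y hy n hn hnt => commute_rof_tof hC.hp hE.ht hta hn hnt (hPT hy) (hPa y hy)
  have hl : Loc p D t s j :=
    { hp := hC.hp
      hP := hC.hP
      hA := hE.hE.mono hDE
      hA1 := IsPair.ne_bot_of_card hC (by omega) hDcard
      ht := hE.ht
      hs := hso
      hts := hst.symm
      hne := fun h => hsnt h.symm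
      hσt := by rw [hjt.eq, mul_inv_cancel_right]
      hσs := hσs
      hta := hta
      hsa := hPa s hsP
      hσa := hPa j (h1D hj)
      hfix := fun n hn hnt => ⟨hfix s hsP n hn hnt, hfix j (h1D hj) n hn hnt⟩
      hΩ := fun n hn hnp hnt => by
        by_contra hnD
        have hcn : ∀ b ∈ D, Commute b n := fun b hb => commute_of_mem_rof hn hb
        refine no_eight hC.hp hC.hP (m := m - 1) ?_ ((hE.hE.mono hDE).sup_zpowers hnp hcn) ?_
          (by omega) hE.ht hso huo hst.symm hut.symm hsu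
          (mem_centralizer_sup_zpowers hta hnt)
          (mem_centralizer_sup_zpowers (hPa s hsP) (hfix s hsP n hn hnt))
          (mem_centralizer_sup_zpowers (hPa u huP) (hfix u huP n hn hnt))
          (fun h => hsnt h.symm) hunt hus huts
        · rw [show m - 1 + 1 = m by omega]; exact hC.bnd
        · rw [card_sup_zpowers hnp hnD hcn, hDcard, ← pow_succ]
          congr 1
          omega }
  have he1a : e1 ∈ Subgroup.centralizer (D : Set G) :=
    Subgroup.mem_centralizer_iff.2 fun b hb => (hE.hE.1 b (hDE hb) e1 he1).eq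
  have he2a : e2 ∈ Subgroup.centralizer (D : Set G) :=
    Subgroup.mem_centralizer_iff.2 fun b hb => (hE.hE.1 b (hDE hb) e2 he2).eq
  set F1 := vop hl e1 he1a he1t with hF1
  set F2 := vop hl e2 he2a he2t with hF2
  set I := vop hl i (hPa i (h1D hi)) hit with hI
  set J := vop hl j (hPa j (h1D hj)) hjt with hJ
  set K := vop hl k (hPa k (h2D hk)) hkt with hK
  set L := vop hl l (hPa l (h2D hl')) hlt' with hL
  set S := vop hl s (hPa s hsP) hst with hS
  set U := vop hl u (hPa u huP) hut with hU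
  have two := vt_two_torsion hl
  have hII : ∀ v, I (I v) = -v := vop_sq_neg hl _ _ hii
  have hJJ : ∀ v, J (J v) = -v := vop_sq_neg hl _ _ hjj
  have hKK : ∀ v, K (K v) = -v := vop_sq_neg hl _ _ hkk
  have hLL : ∀ v, L (L v) = -v := vop_sq_neg hl _ _ hll
  let W : AddSubgroup ↥(Vt hl) := F2.eqLocus (AddMonoidHom.id _)
  have hW : ∀ v, v ∈ W ↔ F2 v = v := fun v => Iff.rfl
  have hsqW := card_fixed_sq W F1 I J hII hJJ (vop_anticomm hl _ _ _ _ hij)
    (fun v => Vt.val_injective (by
      simp only [hF1, hI, hJ, vop_val]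
      show _ = e1 * i * e1⁻¹ * (e1 * Vt.val v * e1⁻¹) * (e1 * i * e1⁻¹)⁻¹
      group))
    (fun v hv => by
      rw [hW] at hv ⊢
      conv_rhs => rw [← hv]
      apply Vt.val_injective
      simp only [hF2, hI, vop_val]
      have h : Commute e2 i := h1B i hi e2 he2'
      calc e2 * (i * Vt.val v * i⁻¹) * e2⁻¹ = (e2 * i) * Vt.val v * (e2 * i)⁻¹ := by group
        _ = _ := by rw [h.eq]; group) two
  have hsqV := card_fixed_sq ⊤ F2 K L hKK hLL (vop_anticomm hl _ _ _ _ hkl)
    (fun v => Vt.val_injective (by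
      simp only [hF2, hK, hL, vop_val]
      show _ = e2 * k * e2⁻¹ * (e2 * Vt.val v * e2⁻¹) * (e2 * k * e2⁻¹)⁻¹
      group))
    (fun v _ => AddSubgroup.mem_top _) two
  rw [AddSubgroup.card_top] at hsqV
  have hWle : Nat.card W ≤ Nat.card {v : ↥(Vt hl) // v ∈ (⊤ : AddSubgroup _) ∧ F2 v = v} :=
    Nat.card_le_card_of_injective (fun v => ⟨v.1, AddSubgroup.mem_top _, v.2⟩)
      (fun a b h => Subtype.ext (congrArg (fun w => w.1) h))
  obtain ⟨hVcard, hfixcard⟩ := card_eigen S J (vop_sq_one hl _ _ hss)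
    (fun a b h => by
      have h1 := congrArg J h
      rw [hJJ, hJJ] at h1
      exact neg_inj.1 h1)
    (fun v => vop_anticomm hl _ _ _ _ (by
      have h3 : t * (s * t) = s := by rw [← mul_assoc, ← hst.eq, mul_assoc, htt, mul_one]
      rw [mul_inv_eq_iff_eq_mul.1 hσs, ← mul_assoc t (s * t) j, h3]) v) two
  set c := Nat.card {v : ↥(Vt hl) // v ∈ W ∧ F1 v = v} with hc
  set d := Nat.card {v // S v = -v} with hd
  have hd1 : 1 < d := by
    by_contra h
    obtain ⟨v, hv⟩ := hl.exists_ne_zero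
    haveI : Nontrivial ↥(Vt hl) := ⟨⟨v, 0, hv⟩⟩
    have h1 : 1 < Nat.card ↥(Vt hl) := Finite.one_lt_card
    rw [hVcard] at h1
    have : d * d ≤ 1 * 1 := Nat.mul_le_mul (by omega) (by omega)
    omega
  have hcd : c < d := by
    have h1 : Nat.card W * Nat.card W ≤ d * d :=
      (Nat.mul_le_mul hWle hWle).trans (hsqV.trans hVcard.le)
    have h2 : Nat.card W ≤ d := Nat.mul_self_le_mul_self_iff.1 h1
    have h3 : c * c ≤ d := hsqW.trans h2
    rcases Nat.lt_or_ge c 2 with h | h
    · omega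
    · exact lt_of_lt_of_le (by nlinarith) h3
  obtain ⟨v, hv, hv0⟩ : ∃ v, S v = v ∧ v ≠ 0 := by
    by_contra h
    push Not at h
    have h1 : Nat.card {v // S v = v} ≤ 1 := Finite.card_le_one_iff_subsingleton.2
      ⟨fun a b => Subtype.ext ((h a.1 a.2).trans (h b.1 b.2).symm)⟩
    omega
  have hSI : ∀ v, S (I v) = I (S v) := fun v => Vt.val_injective (by
    simp only [hS, hI, vop_val]
    calc s * (i * Vt.val v * i⁻¹) * s⁻¹ = (s * i) * Vt.val v * (s * i)⁻¹ := by group
      _ = _ := by rw [← his.eq]; group)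
  have hUS : ∀ v, U (S v) = S (U v) := fun v => Vt.val_injective (by
    simp only [hS, hU, vop_val]
    calc u * (s * Vt.val v * s⁻¹) * u⁻¹ = (u * s) * Vt.val v * (u * s)⁻¹ := by group
      _ = _ := by rw [← hsu.eq]; group)
  have hUI : ∀ v, U (I v) = -I (U v) := fun v => vop_anticomm hl _ _ _ _ (by
    have h := mul_inv_eq_iff_eq_mul.1 hiu
    rw [h, hut.eq, ← mul_assoc, ← mul_assoc, htt, one_mul]) v
  have hUU : ∀ v, U (U v) = v := vop_sq_one hl _ _ huu
  have hI0 : ∀ v, v ≠ 0 → I v ≠ 0 := fun v hv h => hv (by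
    have := congrArg I h
    rwa [hII, map_zero, neg_eq_zero] at this)
  obtain ⟨x', y', hx0, hy0, hxS, hyS, hxU, hyU⟩ : ∃ x' y', x' ≠ 0 ∧ y' ≠ 0 ∧ S x' = x' ∧
      S y' = y' ∧ U x' = x' ∧ U y' = -y' := by
    by_cases h : v + U v = 0
    · have hUv : U v = -v := eq_neg_of_add_eq_zero_right h
      exact ⟨I v, v, hI0 v hv0, hv0, by rw [hSI, hv], hv, by rw [hUI, hUv, map_neg, neg_neg], hUv⟩
    · have hx : U (v + U v) = v + U v := by rw [map_add, hUU, add_comm]
      have hxs : S (v + U v) = v + U v := by rw [map_add, ← hUS, hv]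
      exact ⟨v + U v, I (v + U v), h, hI0 _ h, hxs, by rw [hSI, hxs], hx, by rw [hUI, hx]⟩
  set x := Vt.val x' with hx
  set y := Vt.val y' with hy
  have hxM : x ∈ Mof p D t := Vt.val_mem x'
  have hyM : y ∈ Mof p D t := Vt.val_mem y'
  have hxD : ∀ b ∈ D, Commute b x := fun b hb => commute_of_mem_rof (mof_le_rof D t hxM) hb
  have hsx : Commute s x := vop_fix hl hxS
  have hsy : Commute s y := vop_fix hl hyS
  have hux : Commute u x := vop_fix hl hxU
  have huy : u * y * u⁻¹ = y⁻¹ := vop_flip hl hyU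
  have hxy : Commute x y := hl.commute_of_opposite hxM hyM (hPa u huP)
    (by rw [hux.eq, mul_inv_cancel_right]) huy
  have hyn : y ∉ D ⊔ Subgroup.zpowers x := fun h => hy0 (Vt.val_injective (by
    rw [Vt.val_zero, ← hy]
    refine eq_one_of_inv_eq hl.hp (hl.pow_eq_one hyM) ?_
    rw [← huy, ← Subgroup.mem_centralizer_iff.1 (mem_centralizer_sup_zpowers (hPa u huP) hux) y h,
      mul_inv_cancel_right]))
  have hDx : ∀ b ∈ D ⊔ Subgroup.zpowers x, Commute b y := fun b hb => Subgroup.mem_centralizer_iff.1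
    (mem_centralizer_sup_zpowers (u := y) (rof_le D (mof_le_rof D t hyM)) hxy.symm) b hb
  have hsE : s ∈ Subgroup.centralizer
      ((D ⊔ Subgroup.zpowers x ⊔ Subgroup.zpowers y : Subgroup G) : Set G) :=
    mem_centralizer_sup_zpowers (mem_centralizer_sup_zpowers (hPa s hsP) hsx) hsy
  have hpair : IsPair p m s (D ⊔ Subgroup.zpowers x ⊔ Subgroup.zpowers y) :=
    { ht := hso
      hE := ((hE.hE.mono hDE).sup_zpowers (hl.pow_eq_one hxM) hxD).sup_zpowers
        (hl.pow_eq_one hyM) hDx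
      hcard := by
        rw [card_sup_zpowers (hl.pow_eq_one hyM) hyn hDx,
          card_sup_zpowers (hl.pow_eq_one hxM) (hl.not_mem hx0) hxD, hDcard, ← pow_succ, ← pow_succ]
        congr 1
        omega
      hc := fun g hg => Subgroup.mem_centralizer_iff.1 hsE g hg }
  have hup : phi p t E ≤ c := phi_le hl hDE _ fun w hw =>
    ⟨(hW w).2 (Vt.val_injective (by rw [hF2, vop_val, (hw e2 he2).eq, mul_inv_cancel_right])),
      Vt.val_injective (by rw [hF1, vop_val, (hw e1 he1).eq, mul_inv_cancel_right])⟩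
  have hlow : d ≤ phi p s (D ⊔ Subgroup.zpowers x ⊔ Subgroup.zpowers y) :=
    le_phi hl fun g hg hgi f hf => by
      have hgx : Commute g x := (hl.commute_of_opposite hxM hg (hPa s hsP)
        (by rw [hsx.eq, mul_inv_cancel_right]) hgi).symm
      have hgy : Commute g y := (hl.commute_of_opposite hyM hg (hPa s hsP)
        (by rw [hsy.eq, mul_inv_cancel_right]) hgi).symm
      exact Subgroup.mem_centralizer_iff.1 (mem_centralizer_sup_zpowers
        (mem_centralizer_sup_zpowers (rof_le D (mof_le_rof D t hg)) hgx) hgy) f hf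
  have := hmax s _ hpair
  omega

theorem centralizer_bot_eq {K : Subgroup G} :
    K ⊓ Subgroup.centralizer ((⊥ : Subgroup G) : Set G) = K := by
  refine inf_eq_left.2 fun y _ => Subgroup.mem_centralizer_iff.2 fun b hb => ?_
  rw [SetLike.mem_coe, Subgroup.mem_bot] at hb
  rw [hb, one_mul, mul_one]

/-- There is no maximising pair. -/
theorem no_max_pair (hC : Cfg p m G) (hE : IsPair p m t E)
    (hmax : ∀ (s : G) (E' : Subgroup G), IsPair p m s E' → phi p s E' ≤ phi p t E) : False := by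
  have hm := hC.hm
  by_cases hinv : ∃ B, B ≤ E ∧ Nat.card B * p = Nat.card E ∧
      ∃ s ∈ Pof t E B, s * s = 1 ∧ s ≠ 1 ∧ s ≠ t
  · obtain ⟨B, hBE, hB, s, hs, h2, h1, h3⟩ := hinv
    exact case_inv hC hE hmax hBE hB hs h2 h1 h3
  have hno : ∀ B, B ≤ E → Nat.card B * p = Nat.card E → ∀ z ∈ Pof t E B, z * z = 1 →
      z = 1 ∨ z = t := by
    intro B h1 h2 z h3 h4
    by_contra h
    push Not at h
    exact hinv ⟨B, h1, h2, z, h3, h4, h.1, h.2⟩
  have hbot : (⊥ : Subgroup G) ≠ E := (IsPair.ne_bot_of_card hC (by omega) hE.hcard).symm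
  have gen : ∀ X : Subgroup G, (∀ H, H ≤ E → Nat.card H * p = Nat.card E →
      Tof t ⊓ Subgroup.centralizer (H : Set G) ≤ X) → Tof t ≤ X := by
    intro X hX
    have := hyperplane_le (X := X) hE.hE hE.le_normalizer
      (coprime_card_tof hC.hp t le_rfl) bot_le hbot (fun H hH _ hHc => hX H hH hHc)
    rwa [centralizer_bot_eq] at this
  obtain ⟨B1, hB1E, hB1, hP1⟩ : ∃ B, B ≤ E ∧ Nat.card B * p = Nat.card E ∧ Pof t E B ≠ ⊥ := by
    by_contra h
    push Not at h
    have hT := gen (Subgroup.centralizer (E : Set G)) fun H hH hHc y hy =>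
      Subgroup.mem_centralizer_iff.2 fun e he =>
        (commute_of_pof_eq_bot (h H hH hHc) hy he).symm.eq
    refine hbot.symm ((Subgroup.eq_bot_iff_forall E).2 fun e he =>
      hE.eq_one_of_centralizes hC he fun y hy => ?_)
    exact Subgroup.mem_centralizer_iff.1 (hT hy) e he
  obtain ⟨B2, hB2E, hB2, hP2, hne⟩ : ∃ B, B ≤ E ∧ Nat.card B * p = Nat.card E ∧
      Pof t E B ≠ ⊥ ∧ B ≠ B1 := by
    by_contra h
    push Not at h
    have hT := gen (Subgroup.centralizer (B1 : Set G)) fun H hH hHc y hy => by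
      by_cases hP : Pof t E H = ⊥
      · exact Subgroup.mem_centralizer_iff.2 fun b hb =>
          (commute_of_pof_eq_bot hP hy (hB1E hb)).symm.eq
      · rw [← h H hH hHc hP]; exact hy.2
    refine IsPair.ne_bot_of_card hC (k := m - 1) (by omega) (hE.card_hyper hC hB1)
      ((Subgroup.eq_bot_iff_forall B1).2 fun e he =>
        hE.eq_one_of_centralizes hC (hB1E he) fun y hy => ?_)
    exact Subgroup.mem_centralizer_iff.1 (hT hy) e he
  exact case_quaternion hC hE hmax hno hB1E hB2E hB1 hB2 hne.symm hP1 hP2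

/-- An elementary abelian group of maximal order in a 2-local gives an involution centralising
one of the same order. -/
theorem exists_pair (hC : Cfg p m G) {T0 E : Subgroup G} (hT0 : IsPGroup 2 T0) (hne : T0 ≠ ⊥)
    (hE : IsEl p E) (hET : E ≤ Subgroup.normalizer (T0 : Set G)) (hcard : Nat.card E = p ^ m) :
    ∃ (t : G) (E' : Subgroup G), IsPair p m t E' := by
  haveI : Fact (Nat.Prime 2) := ⟨Nat.prime_two⟩
  have hm := hC.hm
  let U : Subgroup G :=
    { carrier := {z | z ∈ T0 ∧ z * z = 1 ∧ ∀ y ∈ T0, Commute z y}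
      one_mem' := ⟨one_mem _, mul_one 1, fun y _ => Commute.one_left y⟩
      mul_mem' := by
        rintro a b ⟨ha, ha2, hac⟩ ⟨hb, hb2, hbc⟩
        exact ⟨mul_mem ha hb, by rw [(hac b hb).symm.mul_mul_mul_comm, ha2, hb2, mul_one],
          fun y hy => (hac y hy).mul_left (hbc y hy)⟩
      inv_mem' := by
        rintro a ⟨ha, ha2, hac⟩
        exact ⟨inv_mem ha, by rw [← mul_inv_rev, ha2, inv_one], fun y hy => (hac y hy).inv_left⟩ }
  have hU1 : ∃ z ∈ U, z ≠ 1 := by
    haveI : Nontrivial T0 := (Subgroup.nontrivial_iff_ne_bot T0).2 hne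
    haveI := hT0.center_nontrivial
    haveI : Fintype (Subgroup.center T0) := Fintype.ofFinite _
    obtain ⟨n, hn⟩ := (hT0.to_subgroup (Subgroup.center T0)).exists_card_eq
    have hn0 : n ≠ 0 := fun h => by
      have : 1 < Nat.card (Subgroup.center T0) := Finite.one_lt_card
      rw [hn, h, pow_zero] at this
      omega
    obtain ⟨z, hz⟩ := exists_prime_orderOf_dvd_card' (G := Subgroup.center T0) 2
      (hn ▸ dvd_pow_self 2 hn0)
    refine ⟨((z : T0) : G), ⟨(z : T0).2, ?_, fun y hy => ?_⟩, fun h => ?_⟩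
    · have h2 : z * z = 1 := by rw [← sq, ← hz, pow_orderOf_eq_one]
      exact congrArg (fun w : Subgroup.center T0 => ((w : T0) : G)) h2
    · exact (congrArg Subtype.val (Subgroup.mem_center_iff.1 z.2 ⟨y, hy⟩)).symm
    · have h1 : z = 1 := Subtype.ext (Subtype.ext h)
      rw [h1, orderOf_one] at hz
      omega
  have hEU : E ≤ Subgroup.normalizer (U : Set G) := by
    have key : ∀ f ∈ E, ∀ z ∈ U, f * z * f⁻¹ ∈ U := by
      rintro f hf z ⟨hz, hz2, hzc⟩
      refine ⟨(Subgroup.mem_normalizer_iff.1 (hET hf) z).1 hz,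
        by rw [conj_mul, hz2, mul_one, mul_inv_cancel], fun y hy => ?_⟩
      have h := hzc (f⁻¹ * y * f) ((Subgroup.mem_normalizer_iff''.1 (hET hf) y).1 hy)
      show f * z * f⁻¹ * y = y * (f * z * f⁻¹)
      calc f * z * f⁻¹ * y = f * (z * (f⁻¹ * y * f)) * f⁻¹ := by group
        _ = y * (f * z * f⁻¹) := by rw [h.eq]; group
    intro f hf
    rw [Subgroup.mem_normalizer_iff]
    exact fun z => ⟨key f hf z, fun hz => by simpa [mul_assoc] using key f⁻¹ (inv_mem hf) _ hz⟩
  have hcop : p.Coprime (Nat.card U) := by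
    obtain ⟨n, hn⟩ := (hT0.to_le (fun z hz => hz.1 : U ≤ T0)).exists_card_eq
    rw [hn]
    exact (coprime_two hC.hp).symm.pow_right n
  have hbot : (⊥ : Subgroup G) ≠ E := (IsPair.ne_bot_of_card hC (by omega) hcard).symm
  obtain ⟨H, hH, hHc, z, hz, hzH, hz1⟩ : ∃ H, H ≤ E ∧ Nat.card H * p = Nat.card E ∧
      ∃ z ∈ U, z ∈ Subgroup.centralizer (H : Set G) ∧ z ≠ 1 := by
    by_contra h
    push Not at h
    obtain ⟨z, hz, hz1⟩ := hU1
    have := hyperplane_le (X := ⊥) hE hEU hcop bot_le hbot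
      (fun H hH _ hHc y hy => Subgroup.mem_bot.2 (h H hH hHc y hy.1 hy.2))
    rw [centralizer_bot_eq] at this
    exact hz1 (Subgroup.mem_bot.1 (this hz))
  have hzo : orderOf z = 2 := orderOf_eq_prime (by rw [sq]; exact hz.2.1) hz1
  by_cases hall : ∀ e ∈ E, Commute e z
  · exact ⟨z, E, hzo, hE, hcard, hall⟩
  push Not at hall
  obtain ⟨e, he, hez⟩ := hall
  set z' := e * z * e⁻¹ with hz'
  have hz'U : z' ∈ U := (Subgroup.mem_normalizer_iff.1 (hEU he) z).1 hz
  have hne' : z ≠ z' := fun h => hez (mul_inv_eq_iff_eq_mul.1 h.symm)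
  have hz'o : orderOf z' = 2 := orderOf_eq_prime (by rw [sq]; exact hz'U.2.1) fun h => hz1 (by
    rw [hz', mul_inv_eq_one, mul_eq_left] at h; exact h)
  have hHcard : Nat.card H = p ^ (m - 1) := by
    refine Nat.eq_of_mul_eq_mul_right (Fact.out : p.Prime).pos ?_
    rw [hHc, hcard, ← pow_succ]
    congr 1
    omega
  have hz'H : z' ∈ Subgroup.centralizer (H : Set G) := Subgroup.mem_centralizer_iff.2 fun b hb => by
    have hbe : Commute b e := hE.1 b (hH hb) e he
    exact ((hbe.mul_right (show Commute b z from Subgroup.mem_centralizer_iff.1 hzH b hb)).mul_right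
      hbe.inv_right).eq
  obtain ⟨w, x, hw, hxR, hxp, hxH, hwx⟩ := exists_fixed_of_klein hC.hp hC.hP (hE.mono hH)
    (IsPair.ne_bot_of_card hC (by omega) hHcard) hzo hz'o (hz.2.2 z' hz'U.1) hne' hzH hz'H
  have hxc : ∀ b ∈ H, Commute b x := fun b hb => commute_of_mem_rof hxR hb
  have hwo : orderOf w = 2 := by
    rcases hw with rfl | rfl | rfl
    exacts [hzo, hz'o, orderOf_mul_two hzo hz'o (hz.2.2 z' hz'U.1) hne']
  have hwH : w ∈ Subgroup.centralizer (H : Set G) := by
    rcases hw with rfl | rfl | rfl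
    exacts [hzH, hz'H, mul_mem hzH hz'H]
  refine ⟨w, H ⊔ Subgroup.zpowers x, hwo, (hE.mono hH).sup_zpowers hxp hxc, ?_,
    fun g hg => Subgroup.mem_centralizer_iff.1 (mem_centralizer_sup_zpowers hwH hwx) g hg⟩
  rw [card_sup_zpowers hxp hxH hxc, hHcard, ← pow_succ]
  congr 1
  omega

/-- Klinger-Mason: in a group of characteristic 2 and `p` type the 2-local `p`-rank is at most
two. -/
theorem card_le_sq (hp : p ≠ 2) (hP : Cfsg.IsOfLocalCharacteristic p G)
    (h2 : Cfsg.IsCharacteristicTwoType G) {T A : Subgroup G} (hT : IsPGroup 2 T) (hne : T ≠ ⊥)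
    (hA : IsEl p A) (hAT : A ≤ Subgroup.normalizer (T : Set G)) : Nat.card A ≤ p ^ 2 := by
  classical
  haveI : Fact (Nat.Prime 2) := ⟨Nat.prime_two⟩
  by_contra hbig
  push Not at hbig
  let Q : Subgroup G → Prop := fun E => IsEl p E ∧
    ∃ T0 : Subgroup G, IsPGroup 2 T0 ∧ T0 ≠ ⊥ ∧ E ≤ Subgroup.normalizer (T0 : Set G)
  haveI : Nonempty {E // Q E} := ⟨⟨A, hA, T, hT, hne, hAT⟩⟩
  obtain ⟨⟨E, hE, T0, hT0, hT0ne, hET⟩, hEmax⟩ :=
    Finite.exists_max (fun E : {E // Q E} => Nat.card E.1)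
  obtain ⟨m, hm⟩ := hE.isPGroup.exists_card_eq
  have hm3 : 3 ≤ m := by
    have h1 : p ^ 2 < p ^ m := hm ▸ lt_of_lt_of_le hbig (hEmax ⟨A, hA, T, hT, hne, hAT⟩)
    exact (Nat.pow_lt_pow_iff_right (Fact.out : p.Prime).one_lt).1 h1
  have hC : Cfg p m G :=
    { hp := hp
      hP := hP
      h2 := h2
      hm := hm3
      bnd := fun B u hB hu huB => hm ▸ hEmax ⟨B, hB, Subgroup.zpowers u,
        IsPGroup.of_card (n := 1) (by rw [Nat.card_zpowers, hu, pow_one]),
        Subgroup.zpowers_ne_bot.2 (fun h => by rw [h, orderOf_one] at hu; omega),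
        fun b hb => (mem_normalizer_zpowers hu).2 (Subgroup.mem_centralizer_iff.1 huB b hb)⟩ }
  obtain ⟨t0, E0, h0⟩ := exists_pair hC hT0 hT0ne hE hET hm
  haveI : Nonempty {q : G × Subgroup G // IsPair p m q.1 q.2} := ⟨⟨(t0, E0), h0⟩⟩
  obtain ⟨⟨⟨t, E'⟩, hpair⟩, hmax⟩ := Finite.exists_max
    (fun q : {q : G × Subgroup G // IsPair p m q.1 q.2} => phi p q.1.1 q.1.2)
  exact no_max_pair hC hpair fun s F hF => hmax ⟨(s, F), hF⟩

end Cfsg.Agent.KlingerMason
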